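import Cfsg.Agent.H0.Sz.D.D0

/-! Generated by tools/h0/suz/genD.py. -/

set_option maxRecDepth 100000
set_option maxHeartbeats 0

namespace H0.Sz
open H16 H0.TR H0.Am H0.Fi
open scoped commutatorElement

theorem clA_e_0_0 : allZ (H0.Am.clsEnt (rl [nat_lit 7, nat_lit 8, nat_lit 14, nat_lit 15, nat_lit 3, nat_lit 4, nat_lit 0, nat_lit 1] F_P) (nat_lit 8) H16.Suz.B clA_W (nat_lit 321) clAT (nat_lit 0)) (nat_lit 0) (nat_lit 321) = true := by decide +kernel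
theorem clA_e_1_0 : allZ (H0.Am.clsEnt (rl [nat_lit 7, nat_lit 8, nat_lit 14, nat_lit 15, nat_lit 3, nat_lit 4, nat_lit 0, nat_lit 1] F_P) (nat_lit 8) H16.Suz.B clA_W (nat_lit 321) clAT (nat_lit 1)) (nat_lit 0) (nat_lit 321) = true := by decide +kernel
theorem clA_e_2_0 : allZ (H0.Am.clsEnt (rl [nat_lit 7, nat_lit 8, nat_lit 14, nat_lit 15, nat_lit 3, nat_lit 4, nat_lit 0, nat_lit 1] F_P) (nat_lit 8) H16.Suz.B clA_W (nat_lit 321) clAT (nat_lit 2)) (nat_lit 0) (nat_lit 321) = true := by decide +kernel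
theorem clA_e_3_0 : allZ (H0.Am.clsEnt (rl [nat_lit 7, nat_lit 8, nat_lit 14, nat_lit 15, nat_lit 3, nat_lit 4, nat_lit 0, nat_lit 1] F_P) (nat_lit 8) H16.Suz.B clA_W (nat_lit 321) clAT (nat_lit 3)) (nat_lit 0) (nat_lit 321) = true := by decide +kernel
theorem clA_e_4_0 : allZ (H0.Am.clsEnt (rl [nat_lit 7, nat_lit 8, nat_lit 14, nat_lit 15, nat_lit 3, nat_lit 4, nat_lit 0, nat_lit 1] F_P) (nat_lit 8) H16.Suz.B clA_W (nat_lit 321) clAT (nat_lit 4)) (nat_lit 0) (nat_lit 321) = true := by decide +kernel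
theorem clA_e_5_0 : allZ (H0.Am.clsEnt (rl [nat_lit 7, nat_lit 8, nat_lit 14, nat_lit 15, nat_lit 3, nat_lit 4, nat_lit 0, nat_lit 1] F_P) (nat_lit 8) H16.Suz.B clA_W (nat_lit 321) clAT (nat_lit 5)) (nat_lit 0) (nat_lit 321) = true := by decide +kernel
theorem clA_e_6_0 : allZ (H0.Am.clsEnt (rl [nat_lit 7, nat_lit 8, nat_lit 14, nat_lit 15, nat_lit 3, nat_lit 4, nat_lit 0, nat_lit 1] F_P) (nat_lit 8) H16.Suz.B clA_W (nat_lit 321) clAT (nat_lit 6)) (nat_lit 0) (nat_lit 321) = true := by decide +kernel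
theorem clA_e_7_0 : allZ (H0.Am.clsEnt (rl [nat_lit 7, nat_lit 8, nat_lit 14, nat_lit 15, nat_lit 3, nat_lit 4, nat_lit 0, nat_lit 1] F_P) (nat_lit 8) H16.Suz.B clA_W (nat_lit 321) clAT (nat_lit 7)) (nat_lit 0) (nat_lit 321) = true := by decide +kernel
theorem tsA_0 : allZ (tstEnt (rl [nat_lit 7, nat_lit 8, nat_lit 14, nat_lit 15, nat_lit 3, nat_lit 4, nat_lit 0, nat_lit 1] F_P) 8 H16.Suz.B clA_W [[],
  [nat_lit 6],
  [nat_lit 7],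
  [nat_lit 7, nat_lit 6]] 2 5) (nat_lit 0) (nat_lit 128) = true := by decide +kernel
theorem tsA_1 : allZ (tstEnt (rl [nat_lit 7, nat_lit 8, nat_lit 14, nat_lit 15, nat_lit 3, nat_lit 4, nat_lit 0, nat_lit 1] F_P) 8 H16.Suz.B clA_W [[],
  [nat_lit 6],
  [nat_lit 7],
  [nat_lit 7, nat_lit 6]] 2 5) (nat_lit 128) (nat_lit 128) = true := by decide +kernel
theorem tsA_2 : allZ (tstEnt (rl [nat_lit 7, nat_lit 8, nat_lit 14, nat_lit 15, nat_lit 3, nat_lit 4, nat_lit 0, nat_lit 1] F_P) 8 H16.Suz.B clA_W [[],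
  [nat_lit 6],
  [nat_lit 7],
  [nat_lit 7, nat_lit 6]] 2 5) (nat_lit 256) (nat_lit 65) = true := by decide +kernel
theorem cEth_lt : allL (ltAll 7) cEth_W = true := by decide +kernel
theorem cEtl0_e_0 : allZ (dent cEtl0 cEth_P (nat_lit 1782)) (nat_lit 0) (nat_lit 1781) = true := by decide +kernel
theorem cEtl0_h : 0 < cEtl0.n ∧ 0 < cEtl0.K ∧ cEtl0.Pt 0 < 1782 ∧ cEtl0.Q (cEtl0.Pt 0) = 0 := by decide +kernel
theorem cEtl1_e_0 : allZ (dent cEtl1 cEth_P (nat_lit 1782)) (nat_lit 0) (nat_lit 415) = true := by decide +kernel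
theorem cEtl1_h : 0 < cEtl1.n ∧ 0 < cEtl1.K ∧ cEtl1.Pt 0 < 1782 ∧ cEtl1.Q (cEtl1.Pt 0) = 0 := by decide +kernel
theorem cEtl2_e_0 : allZ (dent cEtl2 cEth_P (nat_lit 1782)) (nat_lit 0) (nat_lit 99) = true := by decide +kernel
theorem cEtl2_h : 0 < cEtl2.n ∧ 0 < cEtl2.K ∧ cEtl2.Pt 0 < 1782 ∧ cEtl2.Q (cEtl2.Pt 0) = 0 := by decide +kernel
theorem cEtl3_e_0 : allZ (dent cEtl3 cEth_P (nat_lit 1782)) (nat_lit 0) (nat_lit 62) = true := by decide +kernel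
theorem cEtl3_h : 0 < cEtl3.n ∧ 0 < cEtl3.K ∧ cEtl3.Pt 0 < 1782 ∧ cEtl3.Q (cEtl3.Pt 0) = 0 := by decide +kernel
theorem cEtl4_e_0 : allZ (dent cEtl4 cEth_P (nat_lit 1782)) (nat_lit 0) (nat_lit 11) = true := by decide +kernel
theorem cEtl4_h : 0 < cEtl4.n ∧ 0 < cEtl4.K ∧ cEtl4.Pt 0 < 1782 ∧ cEtl4.Q (cEtl4.Pt 0) = 0 := by decide +kernel
theorem cEtl5_e_0 : allZ (dent cEtl5 cEth_P (nat_lit 1782)) (nat_lit 0) (nat_lit 7) = true := by decide +kernel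
theorem cEtl5_h : 0 < cEtl5.n ∧ 0 < cEtl5.K ∧ cEtl5.Pt 0 < 1782 ∧ cEtl5.Q (cEtl5.Pt 0) = 0 := by decide +kernel
theorem cEt_f5 : (Nat.ble cEtl5.K 18 && Nat.ble (topK []) cEtl5.K && fixLetters cEth_P (topK []) (cEtl5.Pt 0)) = true := by decide +kernel
theorem cEt_f4 : (Nat.ble cEtl4.K 18 && Nat.ble (topK [cEtl5]) cEtl4.K && fixLetters cEth_P (topK [cEtl5]) (cEtl4.Pt 0)) = true := by decide +kernel
theorem cEt_f3 : (Nat.ble cEtl3.K 18 && Nat.ble (topK [cEtl4, cEtl5]) cEtl3.K && fixLetters cEth_P (topK [cEtl4, cEtl5]) (cEtl3.Pt 0)) = true := by decide +kernel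
theorem cEt_f2 : (Nat.ble cEtl2.K 18 && Nat.ble (topK [cEtl3, cEtl4, cEtl5]) cEtl2.K && fixLetters cEth_P (topK [cEtl3, cEtl4, cEtl5]) (cEtl2.Pt 0)) = true := by decide +kernel
theorem cEt_f1 : (Nat.ble cEtl1.K 18 && Nat.ble (topK [cEtl2, cEtl3, cEtl4, cEtl5]) cEtl1.K && fixLetters cEth_P (topK [cEtl2, cEtl3, cEtl4, cEtl5]) (cEtl1.Pt 0)) = true := by decide +kernel
theorem cEt_f0 : (Nat.ble cEtl0.K 18 && Nat.ble (topK [cEtl1, cEtl2, cEtl3, cEtl4, cEtl5]) cEtl0.K && fixLetters cEth_P (topK [cEtl1, cEtl2, cEtl3, cEtl4, cEtl5]) (cEtl0.Pt 0)) = true := by decide +kernel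
theorem cEt_c : chainCard [cEtl0, cEtl1, cEtl2, cEtl3, cEtl4, cEtl5] = 448345497600 := by decide +kernel
theorem cEe_lt : allL (ltAll 7) cEe_W = true := by decide +kernel
theorem cEc5_e_0 : allZ (dent cEc5 cEe_P (nat_lit 1782)) (nat_lit 0) (nat_lit 3) = true := by decide +kernel
theorem cEc5_h : 0 < cEc5.n ∧ 0 < cEc5.K ∧ cEc5.Pt 0 < 1782 ∧ cEc5.Q (cEc5.Pt 0) = 0 := by decide +kernel
theorem cEtn0_0 : (Nat.ble cEtl5.K 18 && Nat.beq (ltAll 1782 [cEtl4.Pt 0, cEtl3.Pt 0, cEtl2.Pt 0, cEtl1.Pt 0, cEtl0.Pt 0]) 0 && kChk cEe_P (rl [nat_lit 0, nat_lit 1, nat_lit 7, nat_lit 13] F_P) cEtn0.Kn 4 H16.Suz.B [cEtl4.Pt 0, cEtl3.Pt 0, cEtl2.Pt 0, cEtl1.Pt 0, cEtl0.Pt 0] && allL (ltAll 4) cEtn0.pre && planOK cEth_P (rl [nat_lit 0, nat_lit 1, nat_lit 7, nat_lit 13] F_P) 4 (cEtl5.Pt 0) cEtn0.plan [cEtl5]) = true := by decide +kernel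
theorem cEtn0_1_0 : allZ (cEtn0.ent H16.Suz.P cEth_P (rl [nat_lit 0, nat_lit 1, nat_lit 7, nat_lit 13] F_P) (rl [nat_lit 0, nat_lit 1, nat_lit 7, nat_lit 13] F_P) cEe_P (nat_lit 7) (nat_lit 4) H16.Suz.B cEtl5 [] (memO cEc5)) (nat_lit 0) (nat_lit 8) = true := by decide +kernel
theorem cE_f5 : (Nat.ble cEc5.K 4 && Nat.ble (topK []) cEc5.K && Nat.beq (cEc5.Pt 0) (cEtl5.Pt 0) && Nat.beq (ltAll 1782 [cEtl4.Pt 0, cEtl3.Pt 0, cEtl2.Pt 0, cEtl1.Pt 0, cEtl0.Pt 0]) 0 && kChk cEe_P (rl [nat_lit 0, nat_lit 1, nat_lit 7, nat_lit 13] F_P) cEc5.K 4 H16.Suz.B [cEtl4.Pt 0, cEtl3.Pt 0, cEtl2.Pt 0, cEtl1.Pt 0, cEtl0.Pt 0]) = true := by decide +kernel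
theorem cE_f4 : (Nat.ble cEtl4.K 18 && Nat.blt (nat_lit 252) 1782 && fixLetters cEth_P cEtl4.K (nat_lit 252) && Nat.beq (ltAll 4 [nat_lit 3, nat_lit 2, nat_lit 2]) 0 && Nat.beq (apW (rl [nat_lit 0, nat_lit 1, nat_lit 7, nat_lit 13] F_P) [nat_lit 3, nat_lit 2, nat_lit 2] (nat_lit 252)) (cEtl4.Pt 0)) = true := by decide +kernel
theorem cE_f3 : (Nat.ble cEtl3.K 18 && Nat.blt (nat_lit 252) 1782 && fixLetters cEth_P cEtl3.K (nat_lit 252) && Nat.beq (ltAll 4 [nat_lit 1]) 0 && Nat.beq (apW (rl [nat_lit 0, nat_lit 1, nat_lit 7, nat_lit 13] F_P) [nat_lit 1] (nat_lit 252)) (cEtl3.Pt 0)) = true := by decide +kernel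
theorem cE_f2 : (Nat.ble cEtl2.K 18 && Nat.blt (nat_lit 252) 1782 && fixLetters cEth_P cEtl2.K (nat_lit 252) && Nat.beq (ltAll 4 [nat_lit 3, nat_lit 2]) 0 && Nat.beq (apW (rl [nat_lit 0, nat_lit 1, nat_lit 7, nat_lit 13] F_P) [nat_lit 3, nat_lit 2] (nat_lit 252)) (cEtl2.Pt 0)) = true := by decide +kernel
theorem cE_f1 : (Nat.ble cEtl1.K 18 && Nat.blt (nat_lit 252) 1782 && fixLetters cEth_P cEtl1.K (nat_lit 252) && Nat.beq (ltAll 4 [nat_lit 3]) 0 && Nat.beq (apW (rl [nat_lit 0, nat_lit 1, nat_lit 7, nat_lit 13] F_P) [nat_lit 3] (nat_lit 252)) (cEtl1.Pt 0)) = true := by decide +kernel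
theorem cEc0_e_0 : allZ (dent cEc0 cEe_P (nat_lit 1782)) (nat_lit 0) (nat_lit 3) = true := by decide +kernel
theorem cEc0_h : 0 < cEc0.n ∧ 0 < cEc0.K ∧ cEc0.Pt 0 < 1782 ∧ cEc0.Q (cEc0.Pt 0) = 0 := by decide +kernel
theorem cEtn1_0 : (Nat.ble cEtl0.K 18 && Nat.beq (ltAll 1782 []) 0 && kChk cEe_P (rl [nat_lit 0, nat_lit 1, nat_lit 7, nat_lit 13] F_P) cEtn1.Kn 4 H16.Suz.B [] && allL (ltAll 4) cEtn1.pre && planOK cEth_P (rl [nat_lit 0, nat_lit 1, nat_lit 7, nat_lit 13] F_P) 4 (cEtl0.Pt 0) cEtn1.plan [cEtl0, cEtl1, cEtl2, cEtl3, cEtl4, cEtl5]) = true := by decide +kernel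
theorem cEtn1_1_0 : allZ (cEtn1.ent H16.Suz.P cEth_P (rl [nat_lit 0, nat_lit 1, nat_lit 7, nat_lit 13] F_P) (rl [nat_lit 0, nat_lit 1, nat_lit 7, nat_lit 13] F_P) cEe_P (nat_lit 7) (nat_lit 4) H16.Suz.B cEtl0 [cEtl1, cEtl2, cEtl3, cEtl4, cEtl5] (memO cEc0)) (nat_lit 0) (nat_lit 1782) = true := by decide +kernel
theorem cE_f0 : (Nat.ble cEc0.K 4 && Nat.ble (topK [cEc5]) cEc0.K && Nat.beq (cEc0.Pt 0) (cEtl0.Pt 0) && Nat.beq (ltAll 1782 []) 0 && kChk cEe_P (rl [nat_lit 0, nat_lit 1, nat_lit 7, nat_lit 13] F_P) cEc0.K 4 H16.Suz.B []) = true := by decide +kernel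
theorem cE_c : chainCard [cEc0, cEc5] = 16 ∧ topK [cEc0, cEc5] = 4 := by decide +kernel
theorem cE_le_k : allZ (fun a => Nat.add (ltAll 4 (nth [] [[nat_lit 0, nat_lit 1, nat_lit 2],
  [nat_lit 1, nat_lit 2],
  [nat_lit 0, nat_lit 1],
  [nat_lit 3]] a)) (sumL (fun β => Nat.xor (cEe_P a β) (apW (rl [nat_lit 0, nat_lit 1, nat_lit 3, nat_lit 4] F_P) (nth [] [[nat_lit 0, nat_lit 1, nat_lit 2],
  [nat_lit 1, nat_lit 2],
  [nat_lit 0, nat_lit 1],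
  [nat_lit 3]] a) β)) H16.Suz.B)) 0 4 = true := by decide +kernel
theorem EX_k : allZ2 (fun a j => force a fun a => force j fun j => cjL (rl [nat_lit 0, nat_lit 1, nat_lit 7, nat_lit 13] F_P) (rl [nat_lit 0, nat_lit 1, nat_lit 3, nat_lit 4] F_P) 4 H16.Suz.B a [j] [j]) 4 4 = true := by decide +kernel
theorem EE_k : allZ2 (fun a j => force a fun a => force j fun j => cjL (rl [nat_lit 0, nat_lit 1, nat_lit 3, nat_lit 4] F_P) (rl [nat_lit 0, nat_lit 1, nat_lit 3, nat_lit 4] F_P) 4 H16.Suz.B a [j] [j]) 4 4 = true := by decide +kernel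
theorem pcE_p : allZ2 (pcEnt (rl [nat_lit 0, nat_lit 1, nat_lit 3, nat_lit 4] F_P) (nat_lit 2) H16.Suz.B pcEC) 4 4 = true := by decide +kernel
theorem pcE_e : allL (ltAll 4) pcEe = true := by decide +kernel
theorem pcEl0_e_0 : allZ (dent pcEl0 (wdsP (rl [nat_lit 0, nat_lit 1, nat_lit 3, nat_lit 4] F_P) pcEe) (nat_lit 1782)) (nat_lit 0) (nat_lit 15) = true := by decide +kernel
theorem pcEl0_h : 0 < pcEl0.n ∧ 0 < pcEl0.K ∧ pcEl0.Pt 0 < 1782 ∧ pcEl0.Q (pcEl0.Pt 0) = 0 := by decide +kernel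
theorem pcE_f0 : (Nat.ble pcEl0.K 7 && Nat.ble (topK []) pcEl0.K && fixLetters (wdsP (rl [nat_lit 0, nat_lit 1, nat_lit 3, nat_lit 4] F_P) pcEe) (topK []) (pcEl0.Pt 0)) = true := by decide +kernel
theorem pcE_c : chainCard [pcEl0] = 2 ^ 4 := by decide +kernel
theorem nE_k : allZ2 (fun a j => force a fun a => cjL (rl [nat_lit 0, nat_lit 1, nat_lit 3, nat_lit 4] F_P) (rl [nat_lit 9, nat_lit 6, nat_lit 2, nat_lit 5, nat_lit 7, nat_lit 8] F_P) 4 H16.Suz.B a [j] (nth [] (nth [] [[[nat_lit 0, nat_lit 1],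
  [nat_lit 1],
  [nat_lit 2, nat_lit 3],
  [nat_lit 3]], [[nat_lit 0],
  [nat_lit 1, nat_lit 2],
  [nat_lit 2],
  [nat_lit 0, nat_lit 2, nat_lit 3]], [[nat_lit 0],
  [nat_lit 0, nat_lit 1],
  [nat_lit 2],
  [nat_lit 2, nat_lit 3]], [[nat_lit 0],
  [nat_lit 1],
  [nat_lit 0, nat_lit 1, nat_lit 2],
  [nat_lit 1, nat_lit 3]], [[nat_lit 0],
  [nat_lit 1],
  [nat_lit 2],
  [nat_lit 3]], [[nat_lit 0],
  [nat_lit 1],
  [nat_lit 2],
  [nat_lit 3]]] a) j)) 6 4 = true := by decide +kernel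
theorem tbu : allZ (fun c => orZ (neW F_P 21 H16.Suz.B (rp 5 (14 :: (rlW [0, 1, 3, 4] (digW 2 0 4 c)))) []) (orZ (neW F_P 21 H16.Suz.B (rp 2 (15 :: ((rlW [0, 1, 3, 4] (digW 2 0 4 c)) ++ 14 :: (rlW [0, 1, 3, 4] (digW 2 0 4 c))))) [1, 0]) (eqL F_P 21 H16.Suz.B (rlW [0, 1, 3, 4] (digW 2 0 4 c)) [4, 3]))) 0 16 = true := by decide +kernel
theorem tbv : allZ (fun c => orZ (neW F_P 21 H16.Suz.B (rp 5 (14 :: (rlW [0, 1, 3, 4] (digW 2 0 4 c)))) []) (orZ (neW F_P 21 H16.Suz.B (rp 2 (15 :: ((rlW [0, 1, 3, 4] (digW 2 0 4 c)) ++ 14 :: (rlW [0, 1, 3, 4] (digW 2 0 4 c))))) [1]) (eqL F_P 21 H16.Suz.B (rlW [0, 1, 3, 4] (digW 2 0 4 c)) [4]))) 0 16 = true := by decide +kernel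
theorem fp1 : allZ (fun c => orZ c (neW F_P 21 H16.Suz.B ((rlW [0, 1, 3, 4] (digW 2 0 4 c)) ++ [6, 9]) ([6, 9] ++ (rlW [0, 1, 3, 4] (digW 2 0 4 c))))) 0 16 = true := by decide +kernel
theorem fp2 : allZ (fun c => orZ c (neW F_P 21 H16.Suz.B ((rlW [0, 1, 3, 4] (digW 2 0 4 c)) ++ w2) (w2 ++ (rlW [0, 1, 3, 4] (digW 2 0 4 c))))) 0 16 = true := by decide +kernel
theorem cKth_lt : allL (ltAll 7) cKth_W = true := by decide +kernel
theorem cKtl0_e_0 : allZ (dent cKtl0 cKth_P (nat_lit 1782)) (nat_lit 0) (nat_lit 1781) = true := by decide +kernel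
theorem cKtl0_h : 0 < cKtl0.n ∧ 0 < cKtl0.K ∧ cKtl0.Pt 0 < 1782 ∧ cKtl0.Q (cKtl0.Pt 0) = 0 := by decide +kernel
theorem cKtl1_e_0 : allZ (dent cKtl1 cKth_P (nat_lit 1782)) (nat_lit 0) (nat_lit 415) = true := by decide +kernel
theorem cKtl1_h : 0 < cKtl1.n ∧ 0 < cKtl1.K ∧ cKtl1.Pt 0 < 1782 ∧ cKtl1.Q (cKtl1.Pt 0) = 0 := by decide +kernel
theorem cKtl2_e_0 : allZ (dent cKtl2 cKth_P (nat_lit 1782)) (nat_lit 0) (nat_lit 99) = true := by decide +kernel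
theorem cKtl2_h : 0 < cKtl2.n ∧ 0 < cKtl2.K ∧ cKtl2.Pt 0 < 1782 ∧ cKtl2.Q (cKtl2.Pt 0) = 0 := by decide +kernel
theorem cKtl3_e_0 : allZ (dent cKtl3 cKth_P (nat_lit 1782)) (nat_lit 0) (nat_lit 62) = true := by decide +kernel
theorem cKtl3_h : 0 < cKtl3.n ∧ 0 < cKtl3.K ∧ cKtl3.Pt 0 < 1782 ∧ cKtl3.Q (cKtl3.Pt 0) = 0 := by decide +kernel
theorem cKtl4_e_0 : allZ (dent cKtl4 cKth_P (nat_lit 1782)) (nat_lit 0) (nat_lit 23) = true := by decide +kernel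
theorem cKtl4_h : 0 < cKtl4.n ∧ 0 < cKtl4.K ∧ cKtl4.Pt 0 < 1782 ∧ cKtl4.Q (cKtl4.Pt 0) = 0 := by decide +kernel
theorem cKtl5_e_0 : allZ (dent cKtl5 cKth_P (nat_lit 1782)) (nat_lit 0) (nat_lit 3) = true := by decide +kernel
theorem cKtl5_h : 0 < cKtl5.n ∧ 0 < cKtl5.K ∧ cKtl5.Pt 0 < 1782 ∧ cKtl5.Q (cKtl5.Pt 0) = 0 := by decide +kernel
theorem cKt_f5 : (Nat.ble cKtl5.K 18 && Nat.ble (topK []) cKtl5.K && fixLetters cKth_P (topK []) (cKtl5.Pt 0)) = true := by decide +kernel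
theorem cKt_f4 : (Nat.ble cKtl4.K 18 && Nat.ble (topK [cKtl5]) cKtl4.K && fixLetters cKth_P (topK [cKtl5]) (cKtl4.Pt 0)) = true := by decide +kernel
theorem cKt_f3 : (Nat.ble cKtl3.K 18 && Nat.ble (topK [cKtl4, cKtl5]) cKtl3.K && fixLetters cKth_P (topK [cKtl4, cKtl5]) (cKtl3.Pt 0)) = true := by decide +kernel
theorem cKt_f2 : (Nat.ble cKtl2.K 18 && Nat.ble (topK [cKtl3, cKtl4, cKtl5]) cKtl2.K && fixLetters cKth_P (topK [cKtl3, cKtl4, cKtl5]) (cKtl2.Pt 0)) = true := by decide +kernel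
theorem cKt_f1 : (Nat.ble cKtl1.K 18 && Nat.ble (topK [cKtl2, cKtl3, cKtl4, cKtl5]) cKtl1.K && fixLetters cKth_P (topK [cKtl2, cKtl3, cKtl4, cKtl5]) (cKtl1.Pt 0)) = true := by decide +kernel
theorem cKt_f0 : (Nat.ble cKtl0.K 18 && Nat.ble (topK [cKtl1, cKtl2, cKtl3, cKtl4, cKtl5]) cKtl0.K && fixLetters cKth_P (topK [cKtl1, cKtl2, cKtl3, cKtl4, cKtl5]) (cKtl0.Pt 0)) = true := by decide +kernel
theorem cKt_c : chainCard [cKtl0, cKtl1, cKtl2, cKtl3, cKtl4, cKtl5] = 448345497600 := by decide +kernel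
theorem cKe_lt : allL (ltAll 7) cKe_W = true := by decide +kernel
theorem cKc5_e_0 : allZ (dent cKc5 cKe_P (nat_lit 1782)) (nat_lit 0) (nat_lit 3) = true := by decide +kernel
theorem cKc5_h : 0 < cKc5.n ∧ 0 < cKc5.K ∧ cKc5.Pt 0 < 1782 ∧ cKc5.Q (cKc5.Pt 0) = 0 := by decide +kernel
theorem cKtn0_0 : (Nat.ble cKtl5.K 18 && Nat.beq (ltAll 1782 [cKtl4.Pt 0, cKtl3.Pt 0, cKtl2.Pt 0, cKtl1.Pt 0, cKtl0.Pt 0]) 0 && kChk cKe_P (rl [nat_lit 0, nat_lit 7, nat_lit 14] F_P) cKtn0.Kn 3 H16.Suz.B [cKtl4.Pt 0, cKtl3.Pt 0, cKtl2.Pt 0, cKtl1.Pt 0, cKtl0.Pt 0] && allL (ltAll 3) cKtn0.pre && planOK cKth_P (rl [nat_lit 0, nat_lit 7, nat_lit 14] F_P) 3 (cKtl5.Pt 0) cKtn0.plan [cKtl5]) = true := by decide +kernel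
theorem cKtn0_1_0 : allZ (cKtn0.ent H16.Suz.P cKth_P (rl [nat_lit 0, nat_lit 7, nat_lit 14] F_P) (rl [nat_lit 0, nat_lit 7, nat_lit 14] F_P) cKe_P (nat_lit 7) (nat_lit 3) H16.Suz.B cKtl5 [] (memO cKc5)) (nat_lit 0) (nat_lit 4) = true := by decide +kernel
theorem cK_f5 : (Nat.ble cKc5.K 2 && Nat.ble (topK []) cKc5.K && Nat.beq (cKc5.Pt 0) (cKtl5.Pt 0) && Nat.beq (ltAll 1782 [cKtl4.Pt 0, cKtl3.Pt 0, cKtl2.Pt 0, cKtl1.Pt 0, cKtl0.Pt 0]) 0 && kChk cKe_P (rl [nat_lit 0, nat_lit 7, nat_lit 14] F_P) cKc5.K 3 H16.Suz.B [cKtl4.Pt 0, cKtl3.Pt 0, cKtl2.Pt 0, cKtl1.Pt 0, cKtl0.Pt 0]) = true := by decide +kernel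
theorem cK_f4 : (Nat.ble cKtl4.K 18 && Nat.blt (nat_lit 252) 1782 && fixLetters cKth_P cKtl4.K (nat_lit 252) && Nat.beq (ltAll 3 [nat_lit 2]) 0 && Nat.beq (apW (rl [nat_lit 0, nat_lit 7, nat_lit 14] F_P) [nat_lit 2] (nat_lit 252)) (cKtl4.Pt 0)) = true := by decide +kernel
theorem cK_f3 : (Nat.ble cKtl3.K 18 && Nat.blt (nat_lit 252) 1782 && fixLetters cKth_P cKtl3.K (nat_lit 252) && Nat.beq (ltAll 3 [nat_lit 2, nat_lit 1, nat_lit 1]) 0 && Nat.beq (apW (rl [nat_lit 0, nat_lit 7, nat_lit 14] F_P) [nat_lit 2, nat_lit 1, nat_lit 1] (nat_lit 252)) (cKtl3.Pt 0)) = true := by decide +kernel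
theorem cK_f2 : (Nat.ble cKtl2.K 18 && Nat.blt (nat_lit 252) 1782 && fixLetters cKth_P cKtl2.K (nat_lit 252) && Nat.beq (ltAll 3 [nat_lit 2, nat_lit 2, nat_lit 1]) 0 && Nat.beq (apW (rl [nat_lit 0, nat_lit 7, nat_lit 14] F_P) [nat_lit 2, nat_lit 2, nat_lit 1] (nat_lit 252)) (cKtl2.Pt 0)) = true := by decide +kernel
theorem cK_f1 : (Nat.ble cKtl1.K 18 && Nat.blt (nat_lit 252) 1782 && fixLetters cKth_P cKtl1.K (nat_lit 252) && Nat.beq (ltAll 3 [nat_lit 2, nat_lit 2]) 0 && Nat.beq (apW (rl [nat_lit 0, nat_lit 7, nat_lit 14] F_P) [nat_lit 2, nat_lit 2] (nat_lit 252)) (cKtl1.Pt 0)) = true := by decide +kernel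
theorem cKc0_e_0 : allZ (dent cKc0 cKe_P (nat_lit 1782)) (nat_lit 0) (nat_lit 1) = true := by decide +kernel
theorem cKc0_h : 0 < cKc0.n ∧ 0 < cKc0.K ∧ cKc0.Pt 0 < 1782 ∧ cKc0.Q (cKc0.Pt 0) = 0 := by decide +kernel
theorem cKtn1_0 : (Nat.ble cKtl0.K 18 && Nat.beq (ltAll 1782 []) 0 && kChk cKe_P (rl [nat_lit 0, nat_lit 7, nat_lit 14] F_P) cKtn1.Kn 3 H16.Suz.B [] && allL (ltAll 3) cKtn1.pre && planOK cKth_P (rl [nat_lit 0, nat_lit 7, nat_lit 14] F_P) 3 (cKtl0.Pt 0) cKtn1.plan [cKtl0, cKtl1, cKtl2, cKtl3, cKtl4, cKtl5]) = true := by decide +kernel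
theorem cKtn1_1_0 : allZ (cKtn1.ent H16.Suz.P cKth_P (rl [nat_lit 0, nat_lit 7, nat_lit 14] F_P) (rl [nat_lit 0, nat_lit 7, nat_lit 14] F_P) cKe_P (nat_lit 7) (nat_lit 3) H16.Suz.B cKtl0 [cKtl1, cKtl2, cKtl3, cKtl4, cKtl5] (memO cKc0)) (nat_lit 0) (nat_lit 1782) = true := by decide +kernel
theorem cK_f0 : (Nat.ble cKc0.K 2 && Nat.ble (topK [cKc5]) cKc0.K && Nat.beq (cKc0.Pt 0) (cKtl0.Pt 0) && Nat.beq (ltAll 1782 []) 0 && kChk cKe_P (rl [nat_lit 0, nat_lit 7, nat_lit 14] F_P) cKc0.K 3 H16.Suz.B []) = true := by decide +kernel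
theorem cK_c : chainCard [cKc0, cKc5] = 8 ∧ topK [cKc0, cKc5] = 2 := by decide +kernel
theorem cK_le_k : allZ (fun a => Nat.add (ltAll 2 (nth [] [[nat_lit 0, nat_lit 1],
  [nat_lit 1]] a)) (sumL (fun β => Nat.xor (cKe_P a β) (apW (rl [nat_lit 1, nat_lit 2] F_P) (nth [] [[nat_lit 0, nat_lit 1],
  [nat_lit 1]] a) β)) H16.Suz.B)) 0 2 = true := by decide +kernel
theorem XT_k : allL (rxEnt F_P 21 9 1 H16.Suz.B) XT = true := by decide +kernel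
theorem rA_k : allL (fixL F_P 21 H16.Suz.B) RA = true := by decide +kernel
theorem rX_k : allL (fixL F_P 21 H16.Suz.B) (XT.map (rxW 9)) = true := by decide +kernel
theorem r2_k : allL (fixL F_P 21 H16.Suz.B) R2 = true := by decide +kernel
theorem rC_k : allL (fixL F_P 21 H16.Suz.B) RC = true := by decide +kernel
theorem rD_k : allL (fixL F_P 21 H16.Suz.B) RD = true := by decide +kernel
theorem rP_k : allL (fixL F_P 21 H16.Suz.B) (H16.PSuz.Rl.map (H0.PM.flat Wp)) = true := by decide +kernel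
theorem low10e_lt : allL (ltAll 10) low10e_W = true := by decide +kernel
theorem low10l0_e_0 : allZ (dent low10l0 low10e_P (nat_lit 1782)) (nat_lit 0) (nat_lit 179) = true := by decide +kernel
theorem low10l0_h : 0 < low10l0.n ∧ 0 < low10l0.K ∧ low10l0.Pt 0 < 1782 ∧ low10l0.Q (low10l0.Pt 0) = 0 := by decide +kernel
theorem low10l1_e_0 : allZ (dent low10l1 low10e_P (nat_lit 1782)) (nat_lit 0) (nat_lit 95) = true := by decide +kernel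
theorem low10l1_h : 0 < low10l1.n ∧ 0 < low10l1.K ∧ low10l1.Pt 0 < 1782 ∧ low10l1.Q (low10l1.Pt 0) = 0 := by decide +kernel
theorem low10_f1 : (Nat.ble low10l1.K 6 && Nat.ble (topK []) low10l1.K && fixLetters low10e_P (topK []) (low10l1.Pt 0)) = true := by decide +kernel
theorem low10_f0 : (Nat.ble low10l0.K 6 && Nat.ble (topK [low10l1]) low10l0.K && fixLetters low10e_P (topK [low10l1]) (low10l0.Pt 0)) = true := by decide +kernel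
theorem low10_c : chainCard [low10l0, low10l1] = 17280 := by decide +kernel
theorem low13e_lt : allL (ltAll 13) low13e_W = true := by decide +kernel
theorem low13l0_e_0 : allZ (dent low13l0 low13e_P (nat_lit 1782)) (nat_lit 0) (nat_lit 161) = true := by decide +kernel
theorem low13l0_h : 0 < low13l0.n ∧ 0 < low13l0.K ∧ low13l0.Pt 0 < 1782 ∧ low13l0.Q (low13l0.Pt 0) = 0 := by decide +kernel
theorem low13l1_e_0 : allZ (dent low13l1 low13e_P (nat_lit 1782)) (nat_lit 0) (nat_lit 104) = true := by decide +kernel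
theorem low13l1_h : 0 < low13l1.n ∧ 0 < low13l1.K ∧ low13l1.Pt 0 < 1782 ∧ low13l1.Q (low13l1.Pt 0) = 0 := by decide +kernel
theorem low13l2_e_0 : allZ (dent low13l2 low13e_P (nat_lit 1782)) (nat_lit 0) (nat_lit 191) = true := by decide +kernel
theorem low13l2_h : 0 < low13l2.n ∧ 0 < low13l2.K ∧ low13l2.Pt 0 < 1782 ∧ low13l2.Q (low13l2.Pt 0) = 0 := by decide +kernel
theorem low13l3_e_0 : allZ (dent low13l3 low13e_P (nat_lit 1782)) (nat_lit 0) (nat_lit 5) = true := by decide +kernel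
theorem low13l3_h : 0 < low13l3.n ∧ 0 < low13l3.K ∧ low13l3.Pt 0 < 1782 ∧ low13l3.Q (low13l3.Pt 0) = 0 := by decide +kernel
theorem low13_f3 : (Nat.ble low13l3.K 6 && Nat.ble (topK []) low13l3.K && fixLetters low13e_P (topK []) (low13l3.Pt 0)) = true := by decide +kernel
theorem low13_f2 : (Nat.ble low13l2.K 6 && Nat.ble (topK [low13l3]) low13l2.K && fixLetters low13e_P (topK [low13l3]) (low13l2.Pt 0)) = true := by decide +kernel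
theorem low13_f1 : (Nat.ble low13l1.K 6 && Nat.ble (topK [low13l2, low13l3]) low13l1.K && fixLetters low13e_P (topK [low13l2, low13l3]) (low13l1.Pt 0)) = true := by decide +kernel
theorem low13_f0 : (Nat.ble low13l0.K 6 && Nat.ble (topK [low13l1, low13l2, low13l3]) low13l0.K && fixLetters low13e_P (topK [low13l1, low13l2, low13l3]) (low13l0.Pt 0)) = true := by decide +kernel
theorem low13_c : chainCard [low13l0, low13l1, low13l2, low13l3] = 19595520 := by decide +kernel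

end H0.Sz
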