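import Cfsg.Agent.H0.Sz.D.D0

/-! Generated by tools/h0/suz/genD.py. -/

set_option maxRecDepth 100000
set_option maxHeartbeats 0

namespace H0.Sz
open H16 H0.TR H0.Am H0.Fi
open scoped commutatorElement

theorem sbP : allZ (subEnt F_P 21 13 7 H16.Suz.B Wp [[nat_lit 0],
  [nat_lit 5],
  [nat_lit 6],
  [nat_lit 2],
  [nat_lit 1, nat_lit 2, nat_lit 5, nat_lit 1, nat_lit 0, nat_lit 1, nat_lit 2, nat_lit 1, nat_lit 5, nat_lit 1],
  [nat_lit 1, nat_lit 3, nat_lit 2, nat_lit 5, nat_lit 1, nat_lit 0, nat_lit 1, nat_lit 2, nat_lit 1, nat_lit 3, nat_lit 5, nat_lit 1],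
  [nat_lit 1, nat_lit 2, nat_lit 1, nat_lit 6, nat_lit 1, nat_lit 0, nat_lit 1, nat_lit 2, nat_lit 1, nat_lit 6, nat_lit 1],
  [nat_lit 0, nat_lit 1, nat_lit 0, nat_lit 2, nat_lit 1, nat_lit 3, nat_lit 2, nat_lit 1, nat_lit 0, nat_lit 1, nat_lit 0, nat_lit 3, nat_lit 2, nat_lit 1, nat_lit 3, nat_lit 2, nat_lit 3, nat_lit 2, nat_lit 1],
  [nat_lit 0, nat_lit 1, nat_lit 0, nat_lit 3, nat_lit 2, nat_lit 1, nat_lit 3, nat_lit 2, nat_lit 3, nat_lit 2, nat_lit 1, nat_lit 0, nat_lit 1, nat_lit 0, nat_lit 2, nat_lit 1, nat_lit 3, nat_lit 2, nat_lit 1],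
  [nat_lit 0, nat_lit 6, nat_lit 1, nat_lit 0, nat_lit 5, nat_lit 1, nat_lit 0, nat_lit 1],
  [nat_lit 3],
  [nat_lit 0, nat_lit 1, nat_lit 3, nat_lit 2, nat_lit 6, nat_lit 1, nat_lit 5, nat_lit 6, nat_lit 1, nat_lit 2, nat_lit 3, nat_lit 2, nat_lit 1, nat_lit 6, nat_lit 5, nat_lit 1, nat_lit 2, nat_lit 3, nat_lit 2, nat_lit 1, nat_lit 5, nat_lit 6, nat_lit 2, nat_lit 1, nat_lit 5, nat_lit 2, nat_lit 1],
  [nat_lit 1, nat_lit 3, nat_lit 2, nat_lit 6, nat_lit 1, nat_lit 5, nat_lit 6, nat_lit 1, nat_lit 2, nat_lit 3, nat_lit 2, nat_lit 1, nat_lit 6, nat_lit 5, nat_lit 1, nat_lit 2, nat_lit 3, nat_lit 2, nat_lit 1, nat_lit 5, nat_lit 6, nat_lit 2, nat_lit 1, nat_lit 5, nat_lit 2, nat_lit 1]]) 0 13 = true := by decide +kernel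
theorem OH_k : allZ (fun a => Nat.add (ltAll 13 (nth [] [[nat_lit 7],
  [nat_lit 8],
  [nat_lit 7, nat_lit 9, nat_lit 12, nat_lit 7, nat_lit 9, nat_lit 12],
  [nat_lit 8, nat_lit 12, nat_lit 8, nat_lit 9, nat_lit 12, nat_lit 8],
  [nat_lit 6, nat_lit 8, nat_lit 11, nat_lit 5, nat_lit 2, nat_lit 12, nat_lit 5, nat_lit 2, nat_lit 6, nat_lit 7],
  [nat_lit 2, nat_lit 6, nat_lit 4, nat_lit 5, nat_lit 2, nat_lit 8, nat_lit 12, nat_lit 5, nat_lit 8, nat_lit 11]] a)) (sumL (fun β => Nat.xor ((rl [nat_lit 7, nat_lit 8, nat_lit 14, nat_lit 15, nat_lit 16, nat_lit 17] F_P) a β) (apW (rl [nat_lit 0, nat_lit 1, nat_lit 2, nat_lit 3, nat_lit 4, nat_lit 5, nat_lit 6, nat_lit 7, nat_lit 8, nat_lit 10, nat_lit 11, nat_lit 12, nat_lit 13] F_P) (nth [] [[nat_lit 7],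
  [nat_lit 8],
  [nat_lit 7, nat_lit 9, nat_lit 12, nat_lit 7, nat_lit 9, nat_lit 12],
  [nat_lit 8, nat_lit 12, nat_lit 8, nat_lit 9, nat_lit 12, nat_lit 8],
  [nat_lit 6, nat_lit 8, nat_lit 11, nat_lit 5, nat_lit 2, nat_lit 12, nat_lit 5, nat_lit 2, nat_lit 6, nat_lit 7],
  [nat_lit 2, nat_lit 6, nat_lit 4, nat_lit 5, nat_lit 2, nat_lit 8, nat_lit 12, nat_lit 5, nat_lit 8, nat_lit 11]] a) β)) H16.Suz.B)) 0 6 = true := by decide +kernel
theorem syt_lt : allL (ltAll 7) syt_W = true := by decide +kernel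
theorem sy_r_0_0 : allZ (resEnt syt_P syP syE syI (nat_lit 1782) (nat_lit 1536) (nat_lit 0)) (nat_lit 0) (nat_lit 1536) = true := by decide +kernel
theorem sy_r_1_0 : allZ (resEnt syt_P syP syE syI (nat_lit 1782) (nat_lit 1536) (nat_lit 1)) (nat_lit 0) (nat_lit 1536) = true := by decide +kernel
theorem sy_r_2_0 : allZ (resEnt syt_P syP syE syI (nat_lit 1782) (nat_lit 1536) (nat_lit 2)) (nat_lit 0) (nat_lit 1536) = true := by decide +kernel
theorem sy_r_3_0 : allZ (resEnt syt_P syP syE syI (nat_lit 1782) (nat_lit 1536) (nat_lit 3)) (nat_lit 0) (nat_lit 1536) = true := by decide +kernel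
theorem sy_r_4_0 : allZ (resEnt syt_P syP syE syI (nat_lit 1782) (nat_lit 1536) (nat_lit 4)) (nat_lit 0) (nat_lit 1536) = true := by decide +kernel
theorem sy_r_5_0 : allZ (resEnt syt_P syP syE syI (nat_lit 1782) (nat_lit 1536) (nat_lit 5)) (nat_lit 0) (nat_lit 1536) = true := by decide +kernel
theorem sy_r_6_0 : allZ (resEnt syt_P syP syE syI (nat_lit 1782) (nat_lit 1536) (nat_lit 6)) (nat_lit 0) (nat_lit 1536) = true := by decide +kernel
theorem sy_r_7_0 : allZ (resEnt syt_P syP syE syI (nat_lit 1782) (nat_lit 1536) (nat_lit 7)) (nat_lit 0) (nat_lit 1536) = true := by decide +kernel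
theorem sy_r_8_0 : allZ (resEnt syt_P syP syE syI (nat_lit 1782) (nat_lit 1536) (nat_lit 8)) (nat_lit 0) (nat_lit 1536) = true := by decide +kernel
theorem sy_r_9_0 : allZ (resEnt syt_P syP syE syI (nat_lit 1782) (nat_lit 1536) (nat_lit 9)) (nat_lit 0) (nat_lit 1536) = true := by decide +kernel
theorem sy_r_10_0 : allZ (resEnt syt_P syP syE syI (nat_lit 1782) (nat_lit 1536) (nat_lit 10)) (nat_lit 0) (nat_lit 1536) = true := by decide +kernel
theorem sy_r_11_0 : allZ (resEnt syt_P syP syE syI (nat_lit 1782) (nat_lit 1536) (nat_lit 11)) (nat_lit 0) (nat_lit 1536) = true := by decide +kernel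
theorem sy_r_12_0 : allZ (resEnt syt_P syP syE syI (nat_lit 1782) (nat_lit 1536) (nat_lit 12)) (nat_lit 0) (nat_lit 1536) = true := by decide +kernel
theorem sy_b : neL H16.Suz.B (syB.map syE) = 0 ∧ ltAll 1536 syB = 0 := by decide +kernel
theorem sy_p : allZ2 (pcEnt syP (nat_lit 2) syB syC) 13 13 = true := by decide +kernel
theorem sy_e : allL (ltAll 13) sye = true := by decide +kernel
theorem syl0_e_0 : allZ (dent syl0 (wdsP syP sye) (nat_lit 1536)) (nat_lit 0) (nat_lit 511) = true := by decide +kernel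
theorem syl0_h : 0 < syl0.n ∧ 0 < syl0.K ∧ syl0.Pt 0 < 1536 ∧ syl0.Q (syl0.Pt 0) = 0 := by decide +kernel
theorem syl1_e_0 : allZ (dent syl1 (wdsP syP sye) (nat_lit 1536)) (nat_lit 0) (nat_lit 7) = true := by decide +kernel
theorem syl1_h : 0 < syl1.n ∧ 0 < syl1.K ∧ syl1.Pt 0 < 1536 ∧ syl1.Q (syl1.Pt 0) = 0 := by decide +kernel
theorem syl2_e_0 : allZ (dent syl2 (wdsP syP sye) (nat_lit 1536)) (nat_lit 0) (nat_lit 1) = true := by decide +kernel
theorem syl2_h : 0 < syl2.n ∧ 0 < syl2.K ∧ syl2.Pt 0 < 1536 ∧ syl2.Q (syl2.Pt 0) = 0 := by decide +kernel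
theorem sy_f2 : (Nat.ble syl2.K 201 && Nat.ble (topK []) syl2.K && fixLetters (wdsP syP sye) (topK []) (syl2.Pt 0)) = true := by decide +kernel
theorem sy_f1 : (Nat.ble syl1.K 201 && Nat.ble (topK [syl2]) syl1.K && fixLetters (wdsP syP sye) (topK [syl2]) (syl1.Pt 0)) = true := by decide +kernel
theorem sy_f0 : (Nat.ble syl0.K 201 && Nat.ble (topK [syl1, syl2]) syl0.K && fixLetters (wdsP syP sye) (topK [syl1, syl2]) (syl0.Pt 0)) = true := by decide +kernel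
theorem sy_c : chainCard [syl0, syl1, syl2] = 2 ^ 13 ∧ ¬ 2 ^ (13 + 1) ∣ 448345497600 := by decide +kernel
theorem invr_lt : allL (ltAll 7) invr_W = true := by decide +kernel
theorem inv_c0 : (Nat.ble 13 13 && Nat.beq (ltAll 13 []) 0 && Nat.beq (invT0.chk H16.Suz.P syP invr_P syE 7 13 2 2 2 syB 13 [] 0) 0) = true := by decide +kernel
theorem w7_lt : allL (ltAll 7) w7_W = true := by decide +kernel
theorem w7a_k : fixL w7_P 1 H16.Suz.B (List.replicate 7 0) = 0 := by decide +kernel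
theorem w7b_k : 0 < 1782 ∧ ltAll 1 (List.replicate 1 0) = 0 ∧ ltAll 1 [] = 0 ∧ apW w7_P (List.replicate 1 0) 0 ≠ apW w7_P [] 0 := by decide +kernel
theorem w7c_k : allZ2 (fun a j => force a fun a => force j fun j => cjL (rl [nat_lit 13] F_P) w7_P 1 H16.Suz.B a [j] [j]) 1 1 = true := by decide +kernel
theorem sht_lt : allL (ltAll 6) sht_W = true := by decide +kernel
theorem sh_r_0_0 : allZ (resEnt sht_P shP shE shI (nat_lit 1782) (nat_lit 1152) (nat_lit 0)) (nat_lit 0) (nat_lit 1152) = true := by decide +kernel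
theorem sh_r_1_0 : allZ (resEnt sht_P shP shE shI (nat_lit 1782) (nat_lit 1152) (nat_lit 1)) (nat_lit 0) (nat_lit 1152) = true := by decide +kernel
theorem sh_r_2_0 : allZ (resEnt sht_P shP shE shI (nat_lit 1782) (nat_lit 1152) (nat_lit 2)) (nat_lit 0) (nat_lit 1152) = true := by decide +kernel
theorem sh_r_3_0 : allZ (resEnt sht_P shP shE shI (nat_lit 1782) (nat_lit 1152) (nat_lit 3)) (nat_lit 0) (nat_lit 1152) = true := by decide +kernel
theorem sh_r_4_0 : allZ (resEnt sht_P shP shE shI (nat_lit 1782) (nat_lit 1152) (nat_lit 4)) (nat_lit 0) (nat_lit 1152) = true := by decide +kernel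
theorem sh_r_5_0 : allZ (resEnt sht_P shP shE shI (nat_lit 1782) (nat_lit 1152) (nat_lit 5)) (nat_lit 0) (nat_lit 1152) = true := by decide +kernel
theorem sh_r_6_0 : allZ (resEnt sht_P shP shE shI (nat_lit 1782) (nat_lit 1152) (nat_lit 6)) (nat_lit 0) (nat_lit 1152) = true := by decide +kernel
theorem sh_r_7_0 : allZ (resEnt sht_P shP shE shI (nat_lit 1782) (nat_lit 1152) (nat_lit 7)) (nat_lit 0) (nat_lit 1152) = true := by decide +kernel

end H0.Sz
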