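import Cfsg.Agent.H0.Sz.D.D0

/-! Generated by tools/h0/suz/genD.py. -/

set_option maxRecDepth 100000
set_option maxHeartbeats 0

namespace H0.Sz
open H16 H0.TR H0.Am H0.Fi
open scoped commutatorElement

theorem sh_r_8_0 : allZ (resEnt sht_P shP shE shI (nat_lit 1782) (nat_lit 1152) (nat_lit 8)) (nat_lit 0) (nat_lit 1152) = true := by decide +kernel
theorem sh_r_9_0 : allZ (resEnt sht_P shP shE shI (nat_lit 1782) (nat_lit 1152) (nat_lit 9)) (nat_lit 0) (nat_lit 1152) = true := by decide +kernel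
theorem sh_r_10_0 : allZ (resEnt sht_P shP shE shI (nat_lit 1782) (nat_lit 1152) (nat_lit 10)) (nat_lit 0) (nat_lit 1152) = true := by decide +kernel
theorem sh_r_11_0 : allZ (resEnt sht_P shP shE shI (nat_lit 1782) (nat_lit 1152) (nat_lit 11)) (nat_lit 0) (nat_lit 1152) = true := by decide +kernel
theorem sh_r_12_0 : allZ (resEnt sht_P shP shE shI (nat_lit 1782) (nat_lit 1152) (nat_lit 12)) (nat_lit 0) (nat_lit 1152) = true := by decide +kernel
theorem sh_b : neL H16.Suz.B (shB.map shE) = 0 ∧ ltAll 1152 shB = 0 := by decide +kernel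
theorem sh_p : allZ2 (pcEnt shP (nat_lit 2) shB shC) 13 13 = true := by decide +kernel
theorem sh_e : allL (ltAll 13) she = true := by decide +kernel
theorem shl0_e_0 : allZ (dent shl0 (wdsP shP she) (nat_lit 1152)) (nat_lit 0) (nat_lit 1023) = true := by decide +kernel
theorem shl0_h : 0 < shl0.n ∧ 0 < shl0.K ∧ shl0.Pt 0 < 1152 ∧ shl0.Q (shl0.Pt 0) = 0 := by decide +kernel
theorem shl1_e_0 : allZ (dent shl1 (wdsP shP she) (nat_lit 1152)) (nat_lit 0) (nat_lit 3) = true := by decide +kernel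
theorem shl1_h : 0 < shl1.n ∧ 0 < shl1.K ∧ shl1.Pt 0 < 1152 ∧ shl1.Q (shl1.Pt 0) = 0 := by decide +kernel
theorem shl2_e_0 : allZ (dent shl2 (wdsP shP she) (nat_lit 1152)) (nat_lit 0) (nat_lit 1) = true := by decide +kernel
theorem shl2_h : 0 < shl2.n ∧ 0 < shl2.K ∧ shl2.Pt 0 < 1152 ∧ shl2.Q (shl2.Pt 0) = 0 := by decide +kernel
theorem sh_f2 : (Nat.ble shl2.K 62 && Nat.ble (topK []) shl2.K && fixLetters (wdsP shP she) (topK []) (shl2.Pt 0)) = true := by decide +kernel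
theorem sh_f1 : (Nat.ble shl1.K 62 && Nat.ble (topK [shl2]) shl1.K && fixLetters (wdsP shP she) (topK [shl2]) (shl1.Pt 0)) = true := by decide +kernel
theorem sh_f0 : (Nat.ble shl0.K 62 && Nat.ble (topK [shl1, shl2]) shl0.K && fixLetters (wdsP shP she) (topK [shl1, shl2]) (shl0.Pt 0)) = true := by decide +kernel
theorem sh_c : chainCard [shl0, shl1, shl2] = 2 ^ 13 ∧ ¬ 2 ^ (13 + 1) ∣ 3317760 := by decide +kernel
theorem ivhr_lt : allL (ltAll 6) ivhr_W = true := by decide +kernel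
theorem ivh_c0 : (Nat.ble 13 13 && Nat.beq (ltAll 13 []) 0 && Nat.beq (ivhT0.chk (rl [nat_lit 7, nat_lit 8, nat_lit 14, nat_lit 15, nat_lit 16, nat_lit 17] F_P) shP ivhr_P shE 6 13 2 2 4 shB 13 [] 0) 0) = true := by decide +kernel
theorem Zw_k : Nat.add (ltAll 6 [nat_lit 0, nat_lit 3, nat_lit 3, nat_lit 4, nat_lit 3, nat_lit 4, nat_lit 0, nat_lit 3, nat_lit 3, nat_lit 4, nat_lit 3, nat_lit 4]) (sumL (fun β => Nat.xor (F_P 0 β) (apW (rl [nat_lit 7, nat_lit 8, nat_lit 14, nat_lit 15, nat_lit 16, nat_lit 17] F_P) [nat_lit 0, nat_lit 3, nat_lit 3, nat_lit 4, nat_lit 3, nat_lit 4, nat_lit 0, nat_lit 3, nat_lit 3, nat_lit 4, nat_lit 3, nat_lit 4] β)) H16.Suz.B) = 0 := by decide +kernel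
theorem pdc_0 : allZ (pdEnt H16.Suz.P (rl [nat_lit 7, nat_lit 8, nat_lit 14, nat_lit 15, nat_lit 16, nat_lit 17] F_P) F_P 7 6 21 H16.Suz.B [nat_lit 0, nat_lit 3, nat_lit 3, nat_lit 4, nat_lit 3, nat_lit 4, nat_lit 0, nat_lit 3, nat_lit 3, nat_lit 4, nat_lit 3, nat_lit 4] ivhr_W [[],
  [nat_lit 2, nat_lit 6, nat_lit 5, nat_lit 3, nat_lit 1, nat_lit 2, nat_lit 1, nat_lit 6, nat_lit 4, nat_lit 2, nat_lit 0, nat_lit 2, nat_lit 2, nat_lit 5, nat_lit 3, nat_lit 0, nat_lit 2, nat_lit 4],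
  [nat_lit 6, nat_lit 5, nat_lit 3, nat_lit 4, nat_lit 3, nat_lit 5, nat_lit 4, nat_lit 2, nat_lit 6, nat_lit 5, nat_lit 6, nat_lit 4, nat_lit 6, nat_lit 2, nat_lit 1, nat_lit 3, nat_lit 1],
  [nat_lit 0, nat_lit 4, nat_lit 2, nat_lit 6, nat_lit 5, nat_lit 2, nat_lit 0, nat_lit 4, nat_lit 5, nat_lit 3, nat_lit 6, nat_lit 5, nat_lit 6, nat_lit 0, nat_lit 2, nat_lit 2, nat_lit 4, nat_lit 5]] pdd) (nat_lit 0) (nat_lit 4) = true := by decide +kernel

end H0.Sz
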