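import Cfsg.Agent.H0.Sz.D.D0

/-! Generated by tools/h0/suz/genD.py. -/

set_option maxRecDepth 100000
set_option maxHeartbeats 0

namespace H0.Sz
open H16 H0.TR H0.Am H0.Fi
open scoped commutatorElement

theorem md_b : ltAll 1782 H16.Suz.B = 0 ∧ 448345497600 ≠ 0 := by decide +kernel
theorem F_lt : allL (ltAll 7) F_W = true := by decide +kernel
theorem F_m_0_0 : allZ (matEnt (wdsP H16.Suz.P F_W) F_P (nat_lit 0)) (nat_lit 0) (nat_lit 1782) = true := by decide +kernel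
theorem F_m_1_0 : allZ (matEnt (wdsP H16.Suz.P F_W) F_P (nat_lit 1)) (nat_lit 0) (nat_lit 1782) = true := by decide +kernel
theorem F_m_2_0 : allZ (matEnt (wdsP H16.Suz.P F_W) F_P (nat_lit 2)) (nat_lit 0) (nat_lit 1782) = true := by decide +kernel
theorem F_m_3_0 : allZ (matEnt (wdsP H16.Suz.P F_W) F_P (nat_lit 3)) (nat_lit 0) (nat_lit 1782) = true := by decide +kernel
theorem F_m_4_0 : allZ (matEnt (wdsP H16.Suz.P F_W) F_P (nat_lit 4)) (nat_lit 0) (nat_lit 1782) = true := by decide +kernel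
theorem F_m_5_0 : allZ (matEnt (wdsP H16.Suz.P F_W) F_P (nat_lit 5)) (nat_lit 0) (nat_lit 1782) = true := by decide +kernel
theorem F_m_6_0 : allZ (matEnt (wdsP H16.Suz.P F_W) F_P (nat_lit 6)) (nat_lit 0) (nat_lit 1782) = true := by decide +kernel
theorem F_m_7_0 : allZ (matEnt (wdsP H16.Suz.P F_W) F_P (nat_lit 7)) (nat_lit 0) (nat_lit 1782) = true := by decide +kernel
theorem F_m_8_0 : allZ (matEnt (wdsP H16.Suz.P F_W) F_P (nat_lit 8)) (nat_lit 0) (nat_lit 1782) = true := by decide +kernel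
theorem F_m_9_0 : allZ (matEnt (wdsP H16.Suz.P F_W) F_P (nat_lit 9)) (nat_lit 0) (nat_lit 1782) = true := by decide +kernel
theorem F_m_10_0 : allZ (matEnt (wdsP H16.Suz.P F_W) F_P (nat_lit 10)) (nat_lit 0) (nat_lit 1782) = true := by decide +kernel
theorem F_m_11_0 : allZ (matEnt (wdsP H16.Suz.P F_W) F_P (nat_lit 11)) (nat_lit 0) (nat_lit 1782) = true := by decide +kernel
theorem F_m_12_0 : allZ (matEnt (wdsP H16.Suz.P F_W) F_P (nat_lit 12)) (nat_lit 0) (nat_lit 1782) = true := by decide +kernel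
theorem F_m_13_0 : allZ (matEnt (wdsP H16.Suz.P F_W) F_P (nat_lit 13)) (nat_lit 0) (nat_lit 1782) = true := by decide +kernel
theorem F_m_14_0 : allZ (matEnt (wdsP H16.Suz.P F_W) F_P (nat_lit 14)) (nat_lit 0) (nat_lit 1782) = true := by decide +kernel
theorem F_m_15_0 : allZ (matEnt (wdsP H16.Suz.P F_W) F_P (nat_lit 15)) (nat_lit 0) (nat_lit 1782) = true := by decide +kernel
theorem F_m_16_0 : allZ (matEnt (wdsP H16.Suz.P F_W) F_P (nat_lit 16)) (nat_lit 0) (nat_lit 1782) = true := by decide +kernel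
theorem F_m_17_0 : allZ (matEnt (wdsP H16.Suz.P F_W) F_P (nat_lit 17)) (nat_lit 0) (nat_lit 1782) = true := by decide +kernel
theorem F_m_18_0 : allZ (matEnt (wdsP H16.Suz.P F_W) F_P (nat_lit 18)) (nat_lit 0) (nat_lit 1782) = true := by decide +kernel
theorem F_m_19_0 : allZ (matEnt (wdsP H16.Suz.P F_W) F_P (nat_lit 19)) (nat_lit 0) (nat_lit 1782) = true := by decide +kernel
theorem F_m_20_0 : allZ (matEnt (wdsP H16.Suz.P F_W) F_P (nat_lit 20)) (nat_lit 0) (nat_lit 1782) = true := by decide +kernel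
theorem pcQ_p : allZ2 (pcEnt (rl [nat_lit 0, nat_lit 1, nat_lit 2, nat_lit 3, nat_lit 18, nat_lit 19, nat_lit 20] F_P) (nat_lit 2) H16.Suz.B pcQC) 7 7 = true := by decide +kernel
theorem pcQ_e : allL (ltAll 7) pcQe = true := by decide +kernel
theorem pcQl0_e_0 : allZ (dent pcQl0 (wdsP (rl [nat_lit 0, nat_lit 1, nat_lit 2, nat_lit 3, nat_lit 18, nat_lit 19, nat_lit 20] F_P) pcQe) (nat_lit 1782)) (nat_lit 0) (nat_lit 63) = true := by decide +kernel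
theorem pcQl0_h : 0 < pcQl0.n ∧ 0 < pcQl0.K ∧ pcQl0.Pt 0 < 1782 ∧ pcQl0.Q (pcQl0.Pt 0) = 0 := by decide +kernel
theorem pcQl1_e_0 : allZ (dent pcQl1 (wdsP (rl [nat_lit 0, nat_lit 1, nat_lit 2, nat_lit 3, nat_lit 18, nat_lit 19, nat_lit 20] F_P) pcQe) (nat_lit 1782)) (nat_lit 0) (nat_lit 1) = true := by decide +kernel
theorem pcQl1_h : 0 < pcQl1.n ∧ 0 < pcQl1.K ∧ pcQl1.Pt 0 < 1782 ∧ pcQl1.Q (pcQl1.Pt 0) = 0 := by decide +kernel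
theorem pcQ_f1 : (Nat.ble pcQl1.K 20 && Nat.ble (topK []) pcQl1.K && fixLetters (wdsP (rl [nat_lit 0, nat_lit 1, nat_lit 2, nat_lit 3, nat_lit 18, nat_lit 19, nat_lit 20] F_P) pcQe) (topK []) (pcQl1.Pt 0)) = true := by decide +kernel
theorem pcQ_f0 : (Nat.ble pcQl0.K 20 && Nat.ble (topK [pcQl1]) pcQl0.K && fixLetters (wdsP (rl [nat_lit 0, nat_lit 1, nat_lit 2, nat_lit 3, nat_lit 18, nat_lit 19, nat_lit 20] F_P) pcQe) (topK [pcQl1]) (pcQl0.Pt 0)) = true := by decide +kernel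
theorem pcQ_c : chainCard [pcQl0, pcQl1] = 2 ^ 7 := by decide +kernel
theorem esQ_k : allZ2 (H0.Fi.esEnt (rl [nat_lit 0, nat_lit 1, nat_lit 2, nat_lit 3, nat_lit 18, nat_lit 19, nat_lit 20] F_P) (nat_lit 7) H16.Suz.B) 7 7 = true := by decide +kernel
theorem cQth_lt : allL (ltAll 7) cQth_W = true := by decide +kernel
theorem cQtl0_e_0 : allZ (dent cQtl0 cQth_P (nat_lit 1782)) (nat_lit 0) (nat_lit 1781) = true := by decide +kernel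
theorem cQtl0_h : 0 < cQtl0.n ∧ 0 < cQtl0.K ∧ cQtl0.Pt 0 < 1782 ∧ cQtl0.Q (cQtl0.Pt 0) = 0 := by decide +kernel
theorem cQtl1_e_0 : allZ (dent cQtl1 cQth_P (nat_lit 1782)) (nat_lit 0) (nat_lit 415) = true := by decide +kernel
theorem cQtl1_h : 0 < cQtl1.n ∧ 0 < cQtl1.K ∧ cQtl1.Pt 0 < 1782 ∧ cQtl1.Q (cQtl1.Pt 0) = 0 := by decide +kernel
theorem cQtl2_e_0 : allZ (dent cQtl2 cQth_P (nat_lit 1782)) (nat_lit 0) (nat_lit 99) = true := by decide +kernel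
theorem cQtl2_h : 0 < cQtl2.n ∧ 0 < cQtl2.K ∧ cQtl2.Pt 0 < 1782 ∧ cQtl2.Q (cQtl2.Pt 0) = 0 := by decide +kernel
theorem cQtl3_e_0 : allZ (dent cQtl3 cQth_P (nat_lit 1782)) (nat_lit 0) (nat_lit 62) = true := by decide +kernel
theorem cQtl3_h : 0 < cQtl3.n ∧ 0 < cQtl3.K ∧ cQtl3.Pt 0 < 1782 ∧ cQtl3.Q (cQtl3.Pt 0) = 0 := by decide +kernel
theorem cQtl4_e_0 : allZ (dent cQtl4 cQth_P (nat_lit 1782)) (nat_lit 0) (nat_lit 3) = true := by decide +kernel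
theorem cQtl4_h : 0 < cQtl4.n ∧ 0 < cQtl4.K ∧ cQtl4.Pt 0 < 1782 ∧ cQtl4.Q (cQtl4.Pt 0) = 0 := by decide +kernel
theorem cQtl5_e_0 : allZ (dent cQtl5 cQth_P (nat_lit 1782)) (nat_lit 0) (nat_lit 23) = true := by decide +kernel
theorem cQtl5_h : 0 < cQtl5.n ∧ 0 < cQtl5.K ∧ cQtl5.Pt 0 < 1782 ∧ cQtl5.Q (cQtl5.Pt 0) = 0 := by decide +kernel
theorem cQt_f5 : (Nat.ble cQtl5.K 15 && Nat.ble (topK []) cQtl5.K && fixLetters cQth_P (topK []) (cQtl5.Pt 0)) = true := by decide +kernel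
theorem cQt_f4 : (Nat.ble cQtl4.K 15 && Nat.ble (topK [cQtl5]) cQtl4.K && fixLetters cQth_P (topK [cQtl5]) (cQtl4.Pt 0)) = true := by decide +kernel
theorem cQt_f3 : (Nat.ble cQtl3.K 15 && Nat.ble (topK [cQtl4, cQtl5]) cQtl3.K && fixLetters cQth_P (topK [cQtl4, cQtl5]) (cQtl3.Pt 0)) = true := by decide +kernel
theorem cQt_f2 : (Nat.ble cQtl2.K 15 && Nat.ble (topK [cQtl3, cQtl4, cQtl5]) cQtl2.K && fixLetters cQth_P (topK [cQtl3, cQtl4, cQtl5]) (cQtl2.Pt 0)) = true := by decide +kernel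
theorem cQt_f1 : (Nat.ble cQtl1.K 15 && Nat.ble (topK [cQtl2, cQtl3, cQtl4, cQtl5]) cQtl1.K && fixLetters cQth_P (topK [cQtl2, cQtl3, cQtl4, cQtl5]) (cQtl1.Pt 0)) = true := by decide +kernel
theorem cQt_f0 : (Nat.ble cQtl0.K 15 && Nat.ble (topK [cQtl1, cQtl2, cQtl3, cQtl4, cQtl5]) cQtl0.K && fixLetters cQth_P (topK [cQtl1, cQtl2, cQtl3, cQtl4, cQtl5]) (cQtl0.Pt 0)) = true := by decide +kernel
theorem cQt_c : chainCard [cQtl0, cQtl1, cQtl2, cQtl3, cQtl4, cQtl5] = 448345497600 := by decide +kernel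
theorem cQe_lt : allL (ltAll 7) cQe_W = true := by decide +kernel
theorem cQ_f5 : (Nat.ble cQtl5.K 15 && Nat.blt (nat_lit 0) 1782 && fixLetters cQth_P cQtl5.K (nat_lit 0) && Nat.beq (ltAll 7 [nat_lit 2]) 0 && Nat.beq (apW (rl [nat_lit 0, nat_lit 1, nat_lit 2, nat_lit 3, nat_lit 18, nat_lit 19, nat_lit 20] F_P) [nat_lit 2] (nat_lit 0)) (cQtl5.Pt 0)) = true := by decide +kernel
theorem cQ_f4 : (Nat.ble cQtl4.K 15 && Nat.blt (nat_lit 0) 1782 && fixLetters cQth_P cQtl4.K (nat_lit 0) && Nat.beq (ltAll 7 [nat_lit 2, nat_lit 6]) 0 && Nat.beq (apW (rl [nat_lit 0, nat_lit 1, nat_lit 2, nat_lit 3, nat_lit 18, nat_lit 19, nat_lit 20] F_P) [nat_lit 2, nat_lit 6] (nat_lit 0)) (cQtl4.Pt 0)) = true := by decide +kernel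
theorem cQ_f3 : (Nat.ble cQtl3.K 15 && Nat.blt (nat_lit 0) 1782 && fixLetters cQth_P cQtl3.K (nat_lit 0) && Nat.beq (ltAll 7 [nat_lit 0]) 0 && Nat.beq (apW (rl [nat_lit 0, nat_lit 1, nat_lit 2, nat_lit 3, nat_lit 18, nat_lit 19, nat_lit 20] F_P) [nat_lit 0] (nat_lit 0)) (cQtl3.Pt 0)) = true := by decide +kernel
theorem cQ_f2 : (Nat.ble cQtl2.K 15 && Nat.blt (nat_lit 0) 1782 && fixLetters cQth_P cQtl2.K (nat_lit 0) && Nat.beq (ltAll 7 [nat_lit 5, nat_lit 1]) 0 && Nat.beq (apW (rl [nat_lit 0, nat_lit 1, nat_lit 2, nat_lit 3, nat_lit 18, nat_lit 19, nat_lit 20] F_P) [nat_lit 5, nat_lit 1] (nat_lit 0)) (cQtl2.Pt 0)) = true := by decide +kernel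
theorem cQ_f1 : (Nat.ble cQtl1.K 15 && Nat.blt (nat_lit 0) 1782 && fixLetters cQth_P cQtl1.K (nat_lit 0) && Nat.beq (ltAll 7 [nat_lit 6, nat_lit 3]) 0 && Nat.beq (apW (rl [nat_lit 0, nat_lit 1, nat_lit 2, nat_lit 3, nat_lit 18, nat_lit 19, nat_lit 20] F_P) [nat_lit 6, nat_lit 3] (nat_lit 0)) (cQtl1.Pt 0)) = true := by decide +kernel
theorem cQc0_e_0 : allZ (dent cQc0 cQe_P (nat_lit 1782)) (nat_lit 0) (nat_lit 1) = true := by decide +kernel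
theorem cQc0_h : 0 < cQc0.n ∧ 0 < cQc0.K ∧ cQc0.Pt 0 < 1782 ∧ cQc0.Q (cQc0.Pt 0) = 0 := by decide +kernel
theorem cQtn0_0 : (Nat.ble cQtl0.K 15 && Nat.beq (ltAll 1782 []) 0 && kChk cQe_P (rl [nat_lit 0, nat_lit 1, nat_lit 2, nat_lit 3, nat_lit 18, nat_lit 19, nat_lit 20] F_P) cQtn0.Kn 7 H16.Suz.B [] && allL (ltAll 7) cQtn0.pre && planOK cQth_P (rl [nat_lit 0, nat_lit 1, nat_lit 2, nat_lit 3, nat_lit 18, nat_lit 19, nat_lit 20] F_P) 7 (cQtl0.Pt 0) cQtn0.plan [cQtl0, cQtl1, cQtl2, cQtl3, cQtl4, cQtl5]) = true := by decide +kernel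
theorem cQtn0_1_0 : allZ (cQtn0.ent H16.Suz.P cQth_P (rl [nat_lit 0, nat_lit 1, nat_lit 2, nat_lit 3, nat_lit 18, nat_lit 19, nat_lit 20] F_P) (rl [nat_lit 0, nat_lit 1, nat_lit 2, nat_lit 3, nat_lit 18, nat_lit 19, nat_lit 20] F_P) cQe_P (nat_lit 7) (nat_lit 7) H16.Suz.B cQtl0 [cQtl1, cQtl2, cQtl3, cQtl4, cQtl5] (memO cQc0)) (nat_lit 0) (nat_lit 1782) = true := by decide +kernel
theorem cQ_f0 : (Nat.ble cQc0.K 1 && Nat.ble (topK []) cQc0.K && Nat.beq (cQc0.Pt 0) (cQtl0.Pt 0) && Nat.beq (ltAll 1782 []) 0 && kChk cQe_P (rl [nat_lit 0, nat_lit 1, nat_lit 2, nat_lit 3, nat_lit 18, nat_lit 19, nat_lit 20] F_P) cQc0.K 7 H16.Suz.B []) = true := by decide +kernel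
theorem cQ_c : chainCard [cQc0] = 2 ∧ topK [cQc0] = 1 := by decide +kernel
theorem cZth_lt : allL (ltAll 7) cZth_W = true := by decide +kernel
theorem cZtl0_e_0 : allZ (dent cZtl0 cZth_P (nat_lit 1782)) (nat_lit 0) (nat_lit 1781) = true := by decide +kernel
theorem cZtl0_h : 0 < cZtl0.n ∧ 0 < cZtl0.K ∧ cZtl0.Pt 0 < 1782 ∧ cZtl0.Q (cZtl0.Pt 0) = 0 := by decide +kernel
theorem cZtl1_e_0 : allZ (dent cZtl1 cZth_P (nat_lit 1782)) (nat_lit 0) (nat_lit 415) = true := by decide +kernel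
theorem cZtl1_h : 0 < cZtl1.n ∧ 0 < cZtl1.K ∧ cZtl1.Pt 0 < 1782 ∧ cZtl1.Q (cZtl1.Pt 0) = 0 := by decide +kernel
theorem cZtl2_e_0 : allZ (dent cZtl2 cZth_P (nat_lit 1782)) (nat_lit 0) (nat_lit 314) = true := by decide +kernel
theorem cZtl2_h : 0 < cZtl2.n ∧ 0 < cZtl2.K ∧ cZtl2.Pt 0 < 1782 ∧ cZtl2.Q (cZtl2.Pt 0) = 0 := by decide +kernel
theorem cZtl3_e_0 : allZ (dent cZtl3 cZth_P (nat_lit 1782)) (nat_lit 0) (nat_lit 9) = true := by decide +kernel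
theorem cZtl3_h : 0 < cZtl3.n ∧ 0 < cZtl3.K ∧ cZtl3.Pt 0 < 1782 ∧ cZtl3.Q (cZtl3.Pt 0) = 0 := by decide +kernel
theorem cZtl4_e_0 : allZ (dent cZtl4 cZth_P (nat_lit 1782)) (nat_lit 0) (nat_lit 7) = true := by decide +kernel
theorem cZtl4_h : 0 < cZtl4.n ∧ 0 < cZtl4.K ∧ cZtl4.Pt 0 < 1782 ∧ cZtl4.Q (cZtl4.Pt 0) = 0 := by decide +kernel
theorem cZtl5_e_0 : allZ (dent cZtl5 cZth_P (nat_lit 1782)) (nat_lit 0) (nat_lit 5) = true := by decide +kernel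
theorem cZtl5_h : 0 < cZtl5.n ∧ 0 < cZtl5.K ∧ cZtl5.Pt 0 < 1782 ∧ cZtl5.Q (cZtl5.Pt 0) = 0 := by decide +kernel
theorem cZtl6_e_0 : allZ (dent cZtl6 cZth_P (nat_lit 1782)) (nat_lit 0) (nat_lit 1) = true := by decide +kernel
theorem cZtl6_h : 0 < cZtl6.n ∧ 0 < cZtl6.K ∧ cZtl6.Pt 0 < 1782 ∧ cZtl6.Q (cZtl6.Pt 0) = 0 := by decide +kernel
theorem cZtl7_e_0 : allZ (dent cZtl7 cZth_P (nat_lit 1782)) (nat_lit 0) (nat_lit 1) = true := by decide +kernel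
theorem cZtl7_h : 0 < cZtl7.n ∧ 0 < cZtl7.K ∧ cZtl7.Pt 0 < 1782 ∧ cZtl7.Q (cZtl7.Pt 0) = 0 := by decide +kernel
theorem cZt_f7 : (Nat.ble cZtl7.K 16 && Nat.ble (topK []) cZtl7.K && fixLetters cZth_P (topK []) (cZtl7.Pt 0)) = true := by decide +kernel
theorem cZt_f6 : (Nat.ble cZtl6.K 16 && Nat.ble (topK [cZtl7]) cZtl6.K && fixLetters cZth_P (topK [cZtl7]) (cZtl6.Pt 0)) = true := by decide +kernel
theorem cZt_f5 : (Nat.ble cZtl5.K 16 && Nat.ble (topK [cZtl6, cZtl7]) cZtl5.K && fixLetters cZth_P (topK [cZtl6, cZtl7]) (cZtl5.Pt 0)) = true := by decide +kernel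
theorem cZt_f4 : (Nat.ble cZtl4.K 16 && Nat.ble (topK [cZtl5, cZtl6, cZtl7]) cZtl4.K && fixLetters cZth_P (topK [cZtl5, cZtl6, cZtl7]) (cZtl4.Pt 0)) = true := by decide +kernel
theorem cZt_f3 : (Nat.ble cZtl3.K 16 && Nat.ble (topK [cZtl4, cZtl5, cZtl6, cZtl7]) cZtl3.K && fixLetters cZth_P (topK [cZtl4, cZtl5, cZtl6, cZtl7]) (cZtl3.Pt 0)) = true := by decide +kernel
theorem cZt_f2 : (Nat.ble cZtl2.K 16 && Nat.ble (topK [cZtl3, cZtl4, cZtl5, cZtl6, cZtl7]) cZtl2.K && fixLetters cZth_P (topK [cZtl3, cZtl4, cZtl5, cZtl6, cZtl7]) (cZtl2.Pt 0)) = true := by decide +kernel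
theorem cZt_f1 : (Nat.ble cZtl1.K 16 && Nat.ble (topK [cZtl2, cZtl3, cZtl4, cZtl5, cZtl6, cZtl7]) cZtl1.K && fixLetters cZth_P (topK [cZtl2, cZtl3, cZtl4, cZtl5, cZtl6, cZtl7]) (cZtl1.Pt 0)) = true := by decide +kernel
theorem cZt_f0 : (Nat.ble cZtl0.K 16 && Nat.ble (topK [cZtl1, cZtl2, cZtl3, cZtl4, cZtl5, cZtl6, cZtl7]) cZtl0.K && fixLetters cZth_P (topK [cZtl1, cZtl2, cZtl3, cZtl4, cZtl5, cZtl6, cZtl7]) (cZtl0.Pt 0)) = true := by decide +kernel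
theorem cZt_c : chainCard [cZtl0, cZtl1, cZtl2, cZtl3, cZtl4, cZtl5, cZtl6, cZtl7] = 448345497600 := by decide +kernel
theorem cZe_lt : allL (ltAll 7) cZe_W = true := by decide +kernel
theorem cZc7_e_0 : allZ (dent cZc7 cZe_P (nat_lit 1782)) (nat_lit 0) (nat_lit 1) = true := by decide +kernel
theorem cZc7_h : 0 < cZc7.n ∧ 0 < cZc7.K ∧ cZc7.Pt 0 < 1782 ∧ cZc7.Q (cZc7.Pt 0) = 0 := by decide +kernel
theorem cZtn0_0 : (Nat.ble cZtl7.K 16 && Nat.beq (ltAll 1782 [cZtl6.Pt 0, cZtl5.Pt 0, cZtl4.Pt 0, cZtl3.Pt 0, cZtl2.Pt 0, cZtl1.Pt 0, cZtl0.Pt 0]) 0 && kChk cZe_P (rl [nat_lit 0] F_P) cZtn0.Kn 1 H16.Suz.B [cZtl6.Pt 0, cZtl5.Pt 0, cZtl4.Pt 0, cZtl3.Pt 0, cZtl2.Pt 0, cZtl1.Pt 0, cZtl0.Pt 0] && allL (ltAll 1) cZtn0.pre && planOK cZth_P (rl [nat_lit 0] F_P) 1 (cZtl7.Pt 0) cZtn0.plan [cZtl7]) = true := by decide +kernel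
theorem cZtn0_1_0 : allZ (cZtn0.ent H16.Suz.P cZth_P (rl [nat_lit 0] F_P) (rl [nat_lit 0] F_P) cZe_P (nat_lit 7) (nat_lit 1) H16.Suz.B cZtl7 [] (memO cZc7)) (nat_lit 0) (nat_lit 2) = true := by decide +kernel
theorem cZ_f7 : (Nat.ble cZc7.K 8 && Nat.ble (topK []) cZc7.K && Nat.beq (cZc7.Pt 0) (cZtl7.Pt 0) && Nat.beq (ltAll 1782 [cZtl6.Pt 0, cZtl5.Pt 0, cZtl4.Pt 0, cZtl3.Pt 0, cZtl2.Pt 0, cZtl1.Pt 0, cZtl0.Pt 0]) 0 && kChk cZe_P (rl [nat_lit 0] F_P) cZc7.K 1 H16.Suz.B [cZtl6.Pt 0, cZtl5.Pt 0, cZtl4.Pt 0, cZtl3.Pt 0, cZtl2.Pt 0, cZtl1.Pt 0, cZtl0.Pt 0]) = true := by decide +kernel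
theorem cZc6_e_0 : allZ (dent cZc6 cZe_P (nat_lit 1782)) (nat_lit 0) (nat_lit 1) = true := by decide +kernel
theorem cZc6_h : 0 < cZc6.n ∧ 0 < cZc6.K ∧ cZc6.Pt 0 < 1782 ∧ cZc6.Q (cZc6.Pt 0) = 0 := by decide +kernel
theorem cZtn1_0 : (Nat.ble cZtl6.K 16 && Nat.beq (ltAll 1782 [cZtl5.Pt 0, cZtl4.Pt 0, cZtl3.Pt 0, cZtl2.Pt 0, cZtl1.Pt 0, cZtl0.Pt 0]) 0 && kChk cZe_P (rl [nat_lit 0] F_P) cZtn1.Kn 1 H16.Suz.B [cZtl5.Pt 0, cZtl4.Pt 0, cZtl3.Pt 0, cZtl2.Pt 0, cZtl1.Pt 0, cZtl0.Pt 0] && allL (ltAll 1) cZtn1.pre && planOK cZth_P (rl [nat_lit 0] F_P) 1 (cZtl6.Pt 0) cZtn1.plan [cZtl6, cZtl7]) = true := by decide +kernel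
theorem cZtn1_1_0 : allZ (cZtn1.ent H16.Suz.P cZth_P (rl [nat_lit 0] F_P) (rl [nat_lit 0] F_P) cZe_P (nat_lit 7) (nat_lit 1) H16.Suz.B cZtl6 [cZtl7] (memO cZc6)) (nat_lit 0) (nat_lit 2) = true := by decide +kernel
theorem cZ_f6 : (Nat.ble cZc6.K 8 && Nat.ble (topK [cZc7]) cZc6.K && Nat.beq (cZc6.Pt 0) (cZtl6.Pt 0) && Nat.beq (ltAll 1782 [cZtl5.Pt 0, cZtl4.Pt 0, cZtl3.Pt 0, cZtl2.Pt 0, cZtl1.Pt 0, cZtl0.Pt 0]) 0 && kChk cZe_P (rl [nat_lit 0] F_P) cZc6.K 1 H16.Suz.B [cZtl5.Pt 0, cZtl4.Pt 0, cZtl3.Pt 0, cZtl2.Pt 0, cZtl1.Pt 0, cZtl0.Pt 0]) = true := by decide +kernel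
theorem cZc5_e_0 : allZ (dent cZc5 cZe_P (nat_lit 1782)) (nat_lit 0) (nat_lit 5) = true := by decide +kernel
theorem cZc5_h : 0 < cZc5.n ∧ 0 < cZc5.K ∧ cZc5.Pt 0 < 1782 ∧ cZc5.Q (cZc5.Pt 0) = 0 := by decide +kernel
theorem cZtn2_0 : (Nat.ble cZtl5.K 16 && Nat.beq (ltAll 1782 [cZtl4.Pt 0, cZtl3.Pt 0, cZtl2.Pt 0, cZtl1.Pt 0, cZtl0.Pt 0]) 0 && kChk cZe_P (rl [nat_lit 0] F_P) cZtn2.Kn 1 H16.Suz.B [cZtl4.Pt 0, cZtl3.Pt 0, cZtl2.Pt 0, cZtl1.Pt 0, cZtl0.Pt 0] && allL (ltAll 1) cZtn2.pre && planOK cZth_P (rl [nat_lit 0] F_P) 1 (cZtl5.Pt 0) cZtn2.plan [cZtl5, cZtl6, cZtl7]) = true := by decide +kernel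
theorem cZtn2_1_0 : allZ (cZtn2.ent H16.Suz.P cZth_P (rl [nat_lit 0] F_P) (rl [nat_lit 0] F_P) cZe_P (nat_lit 7) (nat_lit 1) H16.Suz.B cZtl5 [cZtl6, cZtl7] (memO cZc5)) (nat_lit 0) (nat_lit 6) = true := by decide +kernel
theorem cZ_f5 : (Nat.ble cZc5.K 8 && Nat.ble (topK [cZc6, cZc7]) cZc5.K && Nat.beq (cZc5.Pt 0) (cZtl5.Pt 0) && Nat.beq (ltAll 1782 [cZtl4.Pt 0, cZtl3.Pt 0, cZtl2.Pt 0, cZtl1.Pt 0, cZtl0.Pt 0]) 0 && kChk cZe_P (rl [nat_lit 0] F_P) cZc5.K 1 H16.Suz.B [cZtl4.Pt 0, cZtl3.Pt 0, cZtl2.Pt 0, cZtl1.Pt 0, cZtl0.Pt 0]) = true := by decide +kernel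
theorem cZtn3y1378_lt : allL (ltAll 7) cZtn3y1378_W = true := by decide +kernel
theorem cZtr4k_lt : allL (ltAll 7) cZtr4k_W = true := by decide +kernel
theorem cZtn4y28_lt : allL (ltAll 7) cZtn4y28_W = true := by decide +kernel
theorem cZtr5k_lt : allL (ltAll 7) cZtr5k_W = true := by decide +kernel
theorem cZtn5y148_lt : allL (ltAll 7) cZtn5y148_W = true := by decide +kernel
theorem cZtr6k_lt : allL (ltAll 7) cZtr6k_W = true := by decide +kernel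
theorem cZtn6_0 : (Nat.ble cZtl7.K 16 && Nat.beq (ltAll 1782 [cZtl6.Pt 0, cZtl5.Pt 0, cZtl4.Pt 0, cZtl3.Pt 0, cZtl2.Pt 0, cZtl1.Pt 0, cZtl0.Pt 0]) 0 && kChk cZtr6k_P cZtn5y148_P cZtn6.Kn 1 H16.Suz.B [cZtl6.Pt 0, cZtl5.Pt 0, cZtl4.Pt 0, cZtl3.Pt 0, cZtl2.Pt 0, cZtl1.Pt 0, cZtl0.Pt 0] && allL (ltAll 1) cZtn6.pre && planOK cZth_P (rl [nat_lit 0] F_P) 1 (cZtl7.Pt 0) cZtn6.plan [cZtl7]) = true := by decide +kernel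
theorem cZtn6_1_0 : allZ (cZtn6.ent H16.Suz.P cZth_P (rl [nat_lit 0] F_P) cZtn5y148_P cZtr6k_P (nat_lit 7) (nat_lit 1) H16.Suz.B cZtl7 [] (fun _ => nat_lit 1)) (nat_lit 0) (nat_lit 2) = true := by decide +kernel
theorem cZtn5_0 : (Nat.ble cZtl6.K 16 && Nat.beq (ltAll 1782 [cZtl5.Pt 0, cZtl4.Pt 0, cZtl3.Pt 0, cZtl2.Pt 0, cZtl1.Pt 0, cZtl0.Pt 0]) 0 && kChk cZtr5k_P cZtn4y28_P cZtn5.Kn 1 H16.Suz.B [cZtl5.Pt 0, cZtl4.Pt 0, cZtl3.Pt 0, cZtl2.Pt 0, cZtl1.Pt 0, cZtl0.Pt 0] && allL (ltAll 1) cZtn5.pre && planOK cZth_P (rl [nat_lit 0] F_P) 1 (cZtl6.Pt 0) cZtn5.plan [cZtl6, cZtl7]) = true := by decide +kernel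
theorem cZtn5_1_0 : allZ (cZtn5.ent H16.Suz.P cZth_P (rl [nat_lit 0] F_P) cZtn4y28_P cZtr5k_P (nat_lit 7) (nat_lit 1) H16.Suz.B cZtl6 [cZtl7] (fun _ => nat_lit 1)) (nat_lit 0) (nat_lit 2) = true := by decide +kernel
theorem cZtn4_0 : (Nat.ble cZtl5.K 16 && Nat.beq (ltAll 1782 [cZtl4.Pt 0, cZtl3.Pt 0, cZtl2.Pt 0, cZtl1.Pt 0, cZtl0.Pt 0]) 0 && kChk cZtr4k_P cZtn3y1378_P cZtn4.Kn 1 H16.Suz.B [cZtl4.Pt 0, cZtl3.Pt 0, cZtl2.Pt 0, cZtl1.Pt 0, cZtl0.Pt 0] && allL (ltAll 1) cZtn4.pre && planOK cZth_P (rl [nat_lit 0] F_P) 1 (cZtl5.Pt 0) cZtn4.plan [cZtl5, cZtl6, cZtl7]) = true := by decide +kernel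
theorem cZtn4_1_0 : allZ (cZtn4.ent H16.Suz.P cZth_P (rl [nat_lit 0] F_P) cZtn3y1378_P cZtr4k_P (nat_lit 7) (nat_lit 1) H16.Suz.B cZtl5 [cZtl6, cZtl7] (fun _ => nat_lit 1)) (nat_lit 0) (nat_lit 6) = true := by decide +kernel
theorem cZtn3_0 : (Nat.ble cZtl4.K 16 && Nat.beq (ltAll 1782 [cZtl3.Pt 0, cZtl2.Pt 0, cZtl1.Pt 0, cZtl0.Pt 0]) 0 && kChk cZe_P (rl [nat_lit 0] F_P) cZtn3.Kn 1 H16.Suz.B [cZtl3.Pt 0, cZtl2.Pt 0, cZtl1.Pt 0, cZtl0.Pt 0] && allL (ltAll 1) cZtn3.pre && planOK cZth_P (rl [nat_lit 0] F_P) 1 (cZtl4.Pt 0) cZtn3.plan [cZtl4, cZtl5, cZtl6, cZtl7]) = true := by decide +kernel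
theorem cZtn3_1_0 : allZ (cZtn3.ent H16.Suz.P cZth_P (rl [nat_lit 0] F_P) (rl [nat_lit 0] F_P) cZe_P (nat_lit 7) (nat_lit 1) H16.Suz.B cZtl4 [cZtl5, cZtl6, cZtl7] (fun w => Nat.xor w (cZtl4.Pt (nat_lit 0)))) (nat_lit 0) (nat_lit 8) = true := by decide +kernel
theorem cZc3_e_0 : allZ (dent cZc3 cZe_P (nat_lit 1782)) (nat_lit 0) (nat_lit 7) = true := by decide +kernel
theorem cZc3_h : 0 < cZc3.n ∧ 0 < cZc3.K ∧ cZc3.Pt 0 < 1782 ∧ cZc3.Q (cZc3.Pt 0) = 0 := by decide +kernel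
theorem cZtn7_0 : (Nat.ble cZtl3.K 16 && Nat.beq (ltAll 1782 [cZtl2.Pt 0, cZtl1.Pt 0, cZtl0.Pt 0]) 0 && kChk cZe_P (rl [nat_lit 0] F_P) cZtn7.Kn 1 H16.Suz.B [cZtl2.Pt 0, cZtl1.Pt 0, cZtl0.Pt 0] && allL (ltAll 1) cZtn7.pre && planOK cZth_P (rl [nat_lit 0] F_P) 1 (cZtl3.Pt 0) cZtn7.plan [cZtl3, cZtl4, cZtl5, cZtl6, cZtl7]) = true := by decide +kernel
theorem cZtn7_1_0 : allZ (cZtn7.ent H16.Suz.P cZth_P (rl [nat_lit 0] F_P) (rl [nat_lit 0] F_P) cZe_P (nat_lit 7) (nat_lit 1) H16.Suz.B cZtl3 [cZtl4, cZtl5, cZtl6, cZtl7] (memO cZc3)) (nat_lit 0) (nat_lit 10) = true := by decide +kernel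
theorem cZ_f3 : (Nat.ble cZc3.K 8 && Nat.ble (topK [cZc5, cZc6, cZc7]) cZc3.K && Nat.beq (cZc3.Pt 0) (cZtl3.Pt 0) && Nat.beq (ltAll 1782 [cZtl2.Pt 0, cZtl1.Pt 0, cZtl0.Pt 0]) 0 && kChk cZe_P (rl [nat_lit 0] F_P) cZc3.K 1 H16.Suz.B [cZtl2.Pt 0, cZtl1.Pt 0, cZtl0.Pt 0]) = true := by decide +kernel
theorem cZc2_e_0 : allZ (dent cZc2 cZe_P (nat_lit 1782)) (nat_lit 0) (nat_lit 9) = true := by decide +kernel
theorem cZc2_h : 0 < cZc2.n ∧ 0 < cZc2.K ∧ cZc2.Pt 0 < 1782 ∧ cZc2.Q (cZc2.Pt 0) = 0 := by decide +kernel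
theorem cZtn8y444_lt : allL (ltAll 7) cZtn8y444_W = true := by decide +kernel
theorem cZtr9k_lt : allL (ltAll 7) cZtr9k_W = true := by decide +kernel
theorem cZtn9_0 : (Nat.ble cZtl3.K 16 && Nat.beq (ltAll 1782 [cZtl2.Pt 0, cZtl1.Pt 0, cZtl0.Pt 0]) 0 && kChk cZtr9k_P cZtn8y444_P cZtn9.Kn 1 H16.Suz.B [cZtl2.Pt 0, cZtl1.Pt 0, cZtl0.Pt 0] && allL (ltAll 1) cZtn9.pre && planOK cZth_P (rl [nat_lit 0] F_P) 1 (cZtl3.Pt 0) cZtn9.plan [cZtl3, cZtl4, cZtl5, cZtl6, cZtl7]) = true := by decide +kernel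
theorem cZtn9_1_0 : allZ (cZtn9.ent H16.Suz.P cZth_P (rl [nat_lit 0] F_P) cZtn8y444_P cZtr9k_P (nat_lit 7) (nat_lit 1) H16.Suz.B cZtl3 [cZtl4, cZtl5, cZtl6, cZtl7] (fun _ => nat_lit 1)) (nat_lit 0) (nat_lit 10) = true := by decide +kernel
theorem cZtn8_0 : (Nat.ble cZtl2.K 16 && Nat.beq (ltAll 1782 [cZtl1.Pt 0, cZtl0.Pt 0]) 0 && kChk cZe_P (rl [nat_lit 0] F_P) cZtn8.Kn 1 H16.Suz.B [cZtl1.Pt 0, cZtl0.Pt 0] && allL (ltAll 1) cZtn8.pre && planOK cZth_P (rl [nat_lit 0] F_P) 1 (cZtl2.Pt 0) cZtn8.plan [cZtl2, cZtl3, cZtl4, cZtl5, cZtl6, cZtl7]) = true := by decide +kernel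
theorem cZtn8_1_0 : allZ (cZtn8.ent H16.Suz.P cZth_P (rl [nat_lit 0] F_P) (rl [nat_lit 0] F_P) cZe_P (nat_lit 7) (nat_lit 1) H16.Suz.B cZtl2 [cZtl3, cZtl4, cZtl5, cZtl6, cZtl7] (memO cZc2)) (nat_lit 0) (nat_lit 315) = true := by decide +kernel
theorem cZ_f2 : (Nat.ble cZc2.K 8 && Nat.ble (topK [cZc3, cZc5, cZc6, cZc7]) cZc2.K && Nat.beq (cZc2.Pt 0) (cZtl2.Pt 0) && Nat.beq (ltAll 1782 [cZtl1.Pt 0, cZtl0.Pt 0]) 0 && kChk cZe_P (rl [nat_lit 0] F_P) cZc2.K 1 H16.Suz.B [cZtl1.Pt 0, cZtl0.Pt 0]) = true := by decide +kernel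
theorem cZc1_e_0 : allZ (dent cZc1 cZe_P (nat_lit 1782)) (nat_lit 0) (nat_lit 31) = true := by decide +kernel
theorem cZc1_h : 0 < cZc1.n ∧ 0 < cZc1.K ∧ cZc1.Pt 0 < 1782 ∧ cZc1.Q (cZc1.Pt 0) = 0 := by decide +kernel
theorem cZtn10_0 : (Nat.ble cZtl1.K 16 && Nat.beq (ltAll 1782 [cZtl0.Pt 0]) 0 && kChk cZe_P (rl [nat_lit 0] F_P) cZtn10.Kn 1 H16.Suz.B [cZtl0.Pt 0] && allL (ltAll 1) cZtn10.pre && planOK cZth_P (rl [nat_lit 0] F_P) 1 (cZtl1.Pt 0) cZtn10.plan [cZtl1, cZtl2, cZtl3, cZtl4, cZtl5, cZtl6, cZtl7]) = true := by decide +kernel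
theorem cZtn10_1_0 : allZ (cZtn10.ent H16.Suz.P cZth_P (rl [nat_lit 0] F_P) (rl [nat_lit 0] F_P) cZe_P (nat_lit 7) (nat_lit 1) H16.Suz.B cZtl1 [cZtl2, cZtl3, cZtl4, cZtl5, cZtl6, cZtl7] (memO cZc1)) (nat_lit 0) (nat_lit 416) = true := by decide +kernel
theorem cZ_f1 : (Nat.ble cZc1.K 8 && Nat.ble (topK [cZc2, cZc3, cZc5, cZc6, cZc7]) cZc1.K && Nat.beq (cZc1.Pt 0) (cZtl1.Pt 0) && Nat.beq (ltAll 1782 [cZtl0.Pt 0]) 0 && kChk cZe_P (rl [nat_lit 0] F_P) cZc1.K 1 H16.Suz.B [cZtl0.Pt 0]) = true := by decide +kernel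
theorem cZc0_e_0 : allZ (dent cZc0 cZe_P (nat_lit 1782)) (nat_lit 0) (nat_lit 53) = true := by decide +kernel
theorem cZc0_h : 0 < cZc0.n ∧ 0 < cZc0.K ∧ cZc0.Pt 0 < 1782 ∧ cZc0.Q (cZc0.Pt 0) = 0 := by decide +kernel
theorem cZtn11_0 : (Nat.ble cZtl0.K 16 && Nat.beq (ltAll 1782 []) 0 && kChk cZe_P (rl [nat_lit 0] F_P) cZtn11.Kn 1 H16.Suz.B [] && allL (ltAll 1) cZtn11.pre && planOK cZth_P (rl [nat_lit 0] F_P) 1 (cZtl0.Pt 0) cZtn11.plan [cZtl0, cZtl1, cZtl2, cZtl3, cZtl4, cZtl5, cZtl6, cZtl7]) = true := by decide +kernel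
theorem cZtn11_1_0 : allZ (cZtn11.ent H16.Suz.P cZth_P (rl [nat_lit 0] F_P) (rl [nat_lit 0] F_P) cZe_P (nat_lit 7) (nat_lit 1) H16.Suz.B cZtl0 [cZtl1, cZtl2, cZtl3, cZtl4, cZtl5, cZtl6, cZtl7] (memO cZc0)) (nat_lit 0) (nat_lit 1782) = true := by decide +kernel
theorem cZ_f0 : (Nat.ble cZc0.K 8 && Nat.ble (topK [cZc1, cZc2, cZc3, cZc5, cZc6, cZc7]) cZc0.K && Nat.beq (cZc0.Pt 0) (cZtl0.Pt 0) && Nat.beq (ltAll 1782 []) 0 && kChk cZe_P (rl [nat_lit 0] F_P) cZc0.K 1 H16.Suz.B []) = true := by decide +kernel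
theorem cZ_c : chainCard [cZc0, cZc1, cZc2, cZc3, cZc5, cZc6, cZc7] = 3317760 ∧ topK [cZc0, cZc1, cZc2, cZc3, cZc5, cZc6, cZc7] = 8 := by decide +kernel
theorem cZ_le_k : allZ (fun a => Nat.add (ltAll 6 (nth [] [[nat_lit 3, nat_lit 5, nat_lit 2, nat_lit 2, nat_lit 5, nat_lit 3, nat_lit 5, nat_lit 2, nat_lit 5, nat_lit 2, nat_lit 5],
  [nat_lit 2, nat_lit 2, nat_lit 5, nat_lit 3, nat_lit 3, nat_lit 4, nat_lit 3, nat_lit 5, nat_lit 2, nat_lit 5],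
  [nat_lit 0, nat_lit 2, nat_lit 2, nat_lit 4, nat_lit 1, nat_lit 5, nat_lit 3, nat_lit 0, nat_lit 2],
  [nat_lit 0, nat_lit 5, nat_lit 2, nat_lit 1, nat_lit 3, nat_lit 4, nat_lit 1],
  [nat_lit 2, nat_lit 5, nat_lit 0, nat_lit 5, nat_lit 2, nat_lit 4, nat_lit 3, nat_lit 4, nat_lit 0, nat_lit 5, nat_lit 2, nat_lit 2],
  [nat_lit 0, nat_lit 4, nat_lit 3, nat_lit 4, nat_lit 1, nat_lit 4, nat_lit 2, nat_lit 2, nat_lit 1, nat_lit 5, nat_lit 0],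
  [nat_lit 0, nat_lit 5, nat_lit 2, nat_lit 4, nat_lit 0, nat_lit 5, nat_lit 3, nat_lit 5, nat_lit 3, nat_lit 4, nat_lit 1],
  [nat_lit 0, nat_lit 4, nat_lit 2, nat_lit 4, nat_lit 0, nat_lit 3, nat_lit 3, nat_lit 0, nat_lit 4, nat_lit 1, nat_lit 2, nat_lit 4]] a)) (sumL (fun β => Nat.xor (cZe_P a β) (apW (rl [nat_lit 7, nat_lit 8, nat_lit 14, nat_lit 15, nat_lit 16, nat_lit 17] F_P) (nth [] [[nat_lit 3, nat_lit 5, nat_lit 2, nat_lit 2, nat_lit 5, nat_lit 3, nat_lit 5, nat_lit 2, nat_lit 5, nat_lit 2, nat_lit 5],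
  [nat_lit 2, nat_lit 2, nat_lit 5, nat_lit 3, nat_lit 3, nat_lit 4, nat_lit 3, nat_lit 5, nat_lit 2, nat_lit 5],
  [nat_lit 0, nat_lit 2, nat_lit 2, nat_lit 4, nat_lit 1, nat_lit 5, nat_lit 3, nat_lit 0, nat_lit 2],
  [nat_lit 0, nat_lit 5, nat_lit 2, nat_lit 1, nat_lit 3, nat_lit 4, nat_lit 1],
  [nat_lit 2, nat_lit 5, nat_lit 0, nat_lit 5, nat_lit 2, nat_lit 4, nat_lit 3, nat_lit 4, nat_lit 0, nat_lit 5, nat_lit 2, nat_lit 2],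
  [nat_lit 0, nat_lit 4, nat_lit 3, nat_lit 4, nat_lit 1, nat_lit 4, nat_lit 2, nat_lit 2, nat_lit 1, nat_lit 5, nat_lit 0],
  [nat_lit 0, nat_lit 5, nat_lit 2, nat_lit 4, nat_lit 0, nat_lit 5, nat_lit 3, nat_lit 5, nat_lit 3, nat_lit 4, nat_lit 1],
  [nat_lit 0, nat_lit 4, nat_lit 2, nat_lit 4, nat_lit 0, nat_lit 3, nat_lit 3, nat_lit 0, nat_lit 4, nat_lit 1, nat_lit 2, nat_lit 4]] a) β)) H16.Suz.B)) 0 8 = true := by decide +kernel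
theorem OZ_k : allZ2 (fun a j => force a fun a => force j fun j => cjL (rl [nat_lit 0] F_P) (rl [nat_lit 7, nat_lit 8, nat_lit 14, nat_lit 15, nat_lit 16, nat_lit 17] F_P) 1 H16.Suz.B a [j] [j]) 6 1 = true := by decide +kernel
theorem nQ_k : allZ2 (fun a j => force a fun a => cjL (rl [nat_lit 0, nat_lit 1, nat_lit 2, nat_lit 3, nat_lit 18, nat_lit 19, nat_lit 20] F_P) (rl [nat_lit 7, nat_lit 8, nat_lit 14, nat_lit 15, nat_lit 16, nat_lit 17] F_P) 7 H16.Suz.B a [j] (nth [] (nth [] [[[nat_lit 0],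
  [nat_lit 1],
  [nat_lit 2],
  [nat_lit 3],
  [nat_lit 0, nat_lit 1, nat_lit 3, nat_lit 6],
  [nat_lit 0, nat_lit 4],
  [nat_lit 1, nat_lit 3, nat_lit 5]], [[nat_lit 0],
  [nat_lit 1],
  [nat_lit 2],
  [nat_lit 3],
  [nat_lit 0, nat_lit 5],
  [nat_lit 1, nat_lit 3, nat_lit 6],
  [nat_lit 0, nat_lit 1, nat_lit 3, nat_lit 4]], [[nat_lit 0],
  [nat_lit 1],
  [nat_lit 2],
  [nat_lit 1, nat_lit 2, nat_lit 3, nat_lit 4],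
  [nat_lit 0, nat_lit 2, nat_lit 5, nat_lit 6],
  [nat_lit 2, nat_lit 3, nat_lit 4, nat_lit 6],
  [nat_lit 2, nat_lit 3]], [[nat_lit 0],
  [nat_lit 1],
  [nat_lit 2],
  [nat_lit 2, nat_lit 6],
  [nat_lit 1, nat_lit 3, nat_lit 6],
  [nat_lit 1, nat_lit 2, nat_lit 3, nat_lit 4, nat_lit 5],
  [nat_lit 1, nat_lit 3, nat_lit 5]], [[nat_lit 0],
  [nat_lit 2, nat_lit 5, nat_lit 6],
  [nat_lit 1, nat_lit 3],
  [nat_lit 3],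
  [nat_lit 1, nat_lit 2, nat_lit 3, nat_lit 4],
  [nat_lit 1, nat_lit 2, nat_lit 6],
  [nat_lit 6]], [[nat_lit 0],
  [nat_lit 2, nat_lit 3],
  [nat_lit 2, nat_lit 3, nat_lit 5, nat_lit 6],
  [nat_lit 3],
  [nat_lit 0, nat_lit 3, nat_lit 4, nat_lit 5, nat_lit 6],
  [nat_lit 0, nat_lit 1, nat_lit 2, nat_lit 3, nat_lit 5],
  [nat_lit 6]]] a) j)) 6 7 = true := by decide +kernel
theorem orbQ_e_0 : allZ (H0.Fi.orbEnt (rl [nat_lit 0, nat_lit 1, nat_lit 2, nat_lit 3, nat_lit 18, nat_lit 19, nat_lit 20] F_P) (rl [nat_lit 7, nat_lit 8, nat_lit 14, nat_lit 15, nat_lit 16, nat_lit 17] F_P) (nat_lit 2) (nat_lit 7) (nat_lit 6) H16.Suz.B orbQD orbQL orbQr orbQq orbQR) (nat_lit 0) (nat_lit 128) = true := by decide +kernel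
theorem orbQ_q : allZ (fun c => Nat.sub (Nat.succ (orbQq c)) 3) 0 128 = true := by decide +kernel
theorem O15_k : allZ (fun k => force k fun k => fixL (rl [nat_lit 7, nat_lit 8, nat_lit 14, nat_lit 15, nat_lit 16, nat_lit 17] F_P) 6 H16.Suz.B (List.replicate 15 k)) 0 6 = true := by decide +kernel
theorem TO_k : allZ (fun i => force i fun i => Nat.add (ltAll 6 ((nth ([], 0, 0) TO i).2.1 :: (nth ([], 0, 0) TO i).2.2 :: (nth ([], 0, 0) TO i).1)) (cj3 H16.Suz.P (rl [nat_lit 7, nat_lit 8, nat_lit 14, nat_lit 15, nat_lit 16, nat_lit 17] F_P) (rl [nat_lit 0, nat_lit 1, nat_lit 2, nat_lit 3, nat_lit 18, nat_lit 19, nat_lit 20] F_P) 7 6 7 H16.Suz.B [] (cjR (Nat.xor 1) (nth ([], 0, 0) TO i)) (nth [] [[nat_lit 0, nat_lit 3, nat_lit 5, nat_lit 6],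
  [],
  [],
  [nat_lit 0, nat_lit 3, nat_lit 5, nat_lit 6],
  [nat_lit 0, nat_lit 1, nat_lit 2, nat_lit 5, nat_lit 6],
  [nat_lit 4, nat_lit 5],
  [],
  [nat_lit 0, nat_lit 1, nat_lit 2, nat_lit 5, nat_lit 6],
  [nat_lit 3, nat_lit 5, nat_lit 6],
  [nat_lit 4, nat_lit 5],
  [nat_lit 0, nat_lit 1, nat_lit 3, nat_lit 4, nat_lit 6],
  [],
  [],
  [],
  [nat_lit 4, nat_lit 5],
  [nat_lit 1, nat_lit 2, nat_lit 3],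
  [],
  [nat_lit 1, nat_lit 3, nat_lit 4, nat_lit 6],
  [nat_lit 0, nat_lit 1, nat_lit 3, nat_lit 4, nat_lit 6],
  [],
  [nat_lit 0, nat_lit 4, nat_lit 5],
  [nat_lit 4, nat_lit 5],
  [],
  [nat_lit 1, nat_lit 3, nat_lit 4, nat_lit 6],
  [nat_lit 0, nat_lit 4, nat_lit 5],
  [nat_lit 1, nat_lit 3, nat_lit 5, nat_lit 6],
  [nat_lit 1, nat_lit 3, nat_lit 4, nat_lit 6],
  [nat_lit 1, nat_lit 3, nat_lit 4, nat_lit 6],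
  [],
  [nat_lit 0, nat_lit 3, nat_lit 5, nat_lit 6],
  [],
  [nat_lit 3, nat_lit 5, nat_lit 6],
  [nat_lit 1, nat_lit 2, nat_lit 3],
  [],
  [nat_lit 0, nat_lit 1, nat_lit 2, nat_lit 5, nat_lit 6],
  [],
  [nat_lit 0, nat_lit 1, nat_lit 2, nat_lit 5, nat_lit 6],
  [nat_lit 1, nat_lit 3, nat_lit 5, nat_lit 6],
  [nat_lit 4, nat_lit 5],
  [nat_lit 1, nat_lit 2, nat_lit 3],
  [nat_lit 4, nat_lit 5]] i))) 0 TO.length = true := by decide +kernel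
theorem cZSth_lt : allL (ltAll 7) cZSth_W = true := by decide +kernel
theorem cZStl0_e_0 : allZ (dent cZStl0 cZSth_P (nat_lit 1782)) (nat_lit 0) (nat_lit 1781) = true := by decide +kernel
theorem cZStl0_h : 0 < cZStl0.n ∧ 0 < cZStl0.K ∧ cZStl0.Pt 0 < 1782 ∧ cZStl0.Q (cZStl0.Pt 0) = 0 := by decide +kernel
theorem cZStl1_e_0 : allZ (dent cZStl1 cZSth_P (nat_lit 1782)) (nat_lit 0) (nat_lit 1364) = true := by decide +kernel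
theorem cZStl1_h : 0 < cZStl1.n ∧ 0 < cZStl1.K ∧ cZStl1.Pt 0 < 1782 ∧ cZStl1.Q (cZStl1.Pt 0) = 0 := by decide +kernel
theorem cZStl2_e_0 : allZ (dent cZStl2 cZSth_P (nat_lit 1782)) (nat_lit 0) (nat_lit 19) = true := by decide +kernel
theorem cZStl2_h : 0 < cZStl2.n ∧ 0 < cZStl2.K ∧ cZStl2.Pt 0 < 1782 ∧ cZStl2.Q (cZStl2.Pt 0) = 0 := by decide +kernel
theorem cZStl3_e_0 : allZ (dent cZStl3 cZSth_P (nat_lit 1782)) (nat_lit 0) (nat_lit 2) = true := by decide +kernel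
theorem cZStl3_h : 0 < cZStl3.n ∧ 0 < cZStl3.K ∧ cZStl3.Pt 0 < 1782 ∧ cZStl3.Q (cZStl3.Pt 0) = 0 := by decide +kernel
theorem cZStl4_e_0 : allZ (dent cZStl4 cZSth_P (nat_lit 1782)) (nat_lit 0) (nat_lit 15) = true := by decide +kernel
theorem cZStl4_h : 0 < cZStl4.n ∧ 0 < cZStl4.K ∧ cZStl4.Pt 0 < 1782 ∧ cZStl4.Q (cZStl4.Pt 0) = 0 := by decide +kernel
theorem cZStl5_e_0 : allZ (dent cZStl5 cZSth_P (nat_lit 1782)) (nat_lit 0) (nat_lit 7) = true := by decide +kernel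
theorem cZStl5_h : 0 < cZStl5.n ∧ 0 < cZStl5.K ∧ cZStl5.Pt 0 < 1782 ∧ cZStl5.Q (cZStl5.Pt 0) = 0 := by decide +kernel
theorem cZStl6_e_0 : allZ (dent cZStl6 cZSth_P (nat_lit 1782)) (nat_lit 0) (nat_lit 5) = true := by decide +kernel
theorem cZStl6_h : 0 < cZStl6.n ∧ 0 < cZStl6.K ∧ cZStl6.Pt 0 < 1782 ∧ cZStl6.Q (cZStl6.Pt 0) = 0 := by decide +kernel
theorem cZStl7_e_0 : allZ (dent cZStl7 cZSth_P (nat_lit 1782)) (nat_lit 0) (nat_lit 1) = true := by decide +kernel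
theorem cZStl7_h : 0 < cZStl7.n ∧ 0 < cZStl7.K ∧ cZStl7.Pt 0 < 1782 ∧ cZStl7.Q (cZStl7.Pt 0) = 0 := by decide +kernel
theorem cZStl8_e_0 : allZ (dent cZStl8 cZSth_P (nat_lit 1782)) (nat_lit 0) (nat_lit 1) = true := by decide +kernel
theorem cZStl8_h : 0 < cZStl8.n ∧ 0 < cZStl8.K ∧ cZStl8.Pt 0 < 1782 ∧ cZStl8.Q (cZStl8.Pt 0) = 0 := by decide +kernel
theorem cZSt_f8 : (Nat.ble cZStl8.K 18 && Nat.ble (topK []) cZStl8.K && fixLetters cZSth_P (topK []) (cZStl8.Pt 0)) = true := by decide +kernel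
theorem cZSt_f7 : (Nat.ble cZStl7.K 18 && Nat.ble (topK [cZStl8]) cZStl7.K && fixLetters cZSth_P (topK [cZStl8]) (cZStl7.Pt 0)) = true := by decide +kernel
theorem cZSt_f6 : (Nat.ble cZStl6.K 18 && Nat.ble (topK [cZStl7, cZStl8]) cZStl6.K && fixLetters cZSth_P (topK [cZStl7, cZStl8]) (cZStl6.Pt 0)) = true := by decide +kernel
theorem cZSt_f5 : (Nat.ble cZStl5.K 18 && Nat.ble (topK [cZStl6, cZStl7, cZStl8]) cZStl5.K && fixLetters cZSth_P (topK [cZStl6, cZStl7, cZStl8]) (cZStl5.Pt 0)) = true := by decide +kernel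
theorem cZSt_f4 : (Nat.ble cZStl4.K 18 && Nat.ble (topK [cZStl5, cZStl6, cZStl7, cZStl8]) cZStl4.K && fixLetters cZSth_P (topK [cZStl5, cZStl6, cZStl7, cZStl8]) (cZStl4.Pt 0)) = true := by decide +kernel
theorem cZSt_f3 : (Nat.ble cZStl3.K 18 && Nat.ble (topK [cZStl4, cZStl5, cZStl6, cZStl7, cZStl8]) cZStl3.K && fixLetters cZSth_P (topK [cZStl4, cZStl5, cZStl6, cZStl7, cZStl8]) (cZStl3.Pt 0)) = true := by decide +kernel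
theorem cZSt_f2 : (Nat.ble cZStl2.K 18 && Nat.ble (topK [cZStl3, cZStl4, cZStl5, cZStl6, cZStl7, cZStl8]) cZStl2.K && fixLetters cZSth_P (topK [cZStl3, cZStl4, cZStl5, cZStl6, cZStl7, cZStl8]) (cZStl2.Pt 0)) = true := by decide +kernel
theorem cZSt_f1 : (Nat.ble cZStl1.K 18 && Nat.ble (topK [cZStl2, cZStl3, cZStl4, cZStl5, cZStl6, cZStl7, cZStl8]) cZStl1.K && fixLetters cZSth_P (topK [cZStl2, cZStl3, cZStl4, cZStl5, cZStl6, cZStl7, cZStl8]) (cZStl1.Pt 0)) = true := by decide +kernel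
theorem cZSt_f0 : (Nat.ble cZStl0.K 18 && Nat.ble (topK [cZStl1, cZStl2, cZStl3, cZStl4, cZStl5, cZStl6, cZStl7, cZStl8]) cZStl0.K && fixLetters cZSth_P (topK [cZStl1, cZStl2, cZStl3, cZStl4, cZStl5, cZStl6, cZStl7, cZStl8]) (cZStl0.Pt 0)) = true := by decide +kernel
theorem cZSt_c : chainCard [cZStl0, cZStl1, cZStl2, cZStl3, cZStl4, cZStl5, cZStl6, cZStl7, cZStl8] = 448345497600 := by decide +kernel
theorem cZSe_lt : allL (ltAll 7) cZSe_W = true := by decide +kernel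
theorem cZSc8_e_0 : allZ (dent cZSc8 cZSe_P (nat_lit 1782)) (nat_lit 0) (nat_lit 1) = true := by decide +kernel
theorem cZSc8_h : 0 < cZSc8.n ∧ 0 < cZSc8.K ∧ cZSc8.Pt 0 < 1782 ∧ cZSc8.Q (cZSc8.Pt 0) = 0 := by decide +kernel
theorem cZStn0_0 : (Nat.ble cZStl8.K 18 && Nat.beq (ltAll 1782 [cZStl7.Pt 0, cZStl6.Pt 0, cZStl5.Pt 0, cZStl4.Pt 0, cZStl3.Pt 0, cZStl2.Pt 0, cZStl1.Pt 0, cZStl0.Pt 0]) 0 && kChk cZSe_P (rl [nat_lit 0, nat_lit 1] F_P) cZStn0.Kn 2 H16.Suz.B [cZStl7.Pt 0, cZStl6.Pt 0, cZStl5.Pt 0, cZStl4.Pt 0, cZStl3.Pt 0, cZStl2.Pt 0, cZStl1.Pt 0, cZStl0.Pt 0] && allL (ltAll 2) cZStn0.pre && planOK cZSth_P (rl [nat_lit 0, nat_lit 1] F_P) 2 (cZStl8.Pt 0) cZStn0.plan [cZStl8]) = true := by decide +kernel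
theorem cZStn0_1_0 : allZ (cZStn0.ent H16.Suz.P cZSth_P (rl [nat_lit 0, nat_lit 1] F_P) (rl [nat_lit 0, nat_lit 1] F_P) cZSe_P (nat_lit 7) (nat_lit 2) H16.Suz.B cZStl8 [] (memO cZSc8)) (nat_lit 0) (nat_lit 2) = true := by decide +kernel
theorem cZS_f8 : (Nat.ble cZSc8.K 6 && Nat.ble (topK []) cZSc8.K && Nat.beq (cZSc8.Pt 0) (cZStl8.Pt 0) && Nat.beq (ltAll 1782 [cZStl7.Pt 0, cZStl6.Pt 0, cZStl5.Pt 0, cZStl4.Pt 0, cZStl3.Pt 0, cZStl2.Pt 0, cZStl1.Pt 0, cZStl0.Pt 0]) 0 && kChk cZSe_P (rl [nat_lit 0, nat_lit 1] F_P) cZSc8.K 2 H16.Suz.B [cZStl7.Pt 0, cZStl6.Pt 0, cZStl5.Pt 0, cZStl4.Pt 0, cZStl3.Pt 0, cZStl2.Pt 0, cZStl1.Pt 0, cZStl0.Pt 0]) = true := by decide +kernel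
theorem cZSc7_e_0 : allZ (dent cZSc7 cZSe_P (nat_lit 1782)) (nat_lit 0) (nat_lit 1) = true := by decide +kernel
theorem cZSc7_h : 0 < cZSc7.n ∧ 0 < cZSc7.K ∧ cZSc7.Pt 0 < 1782 ∧ cZSc7.Q (cZSc7.Pt 0) = 0 := by decide +kernel
theorem cZStn1_0 : (Nat.ble cZStl7.K 18 && Nat.beq (ltAll 1782 [cZStl6.Pt 0, cZStl5.Pt 0, cZStl4.Pt 0, cZStl3.Pt 0, cZStl2.Pt 0, cZStl1.Pt 0, cZStl0.Pt 0]) 0 && kChk cZSe_P (rl [nat_lit 0, nat_lit 1] F_P) cZStn1.Kn 2 H16.Suz.B [cZStl6.Pt 0, cZStl5.Pt 0, cZStl4.Pt 0, cZStl3.Pt 0, cZStl2.Pt 0, cZStl1.Pt 0, cZStl0.Pt 0] && allL (ltAll 2) cZStn1.pre && planOK cZSth_P (rl [nat_lit 0, nat_lit 1] F_P) 2 (cZStl7.Pt 0) cZStn1.plan [cZStl7, cZStl8]) = true := by decide +kernel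
theorem cZStn1_1_0 : allZ (cZStn1.ent H16.Suz.P cZSth_P (rl [nat_lit 0, nat_lit 1] F_P) (rl [nat_lit 0, nat_lit 1] F_P) cZSe_P (nat_lit 7) (nat_lit 2) H16.Suz.B cZStl7 [cZStl8] (memO cZSc7)) (nat_lit 0) (nat_lit 2) = true := by decide +kernel
theorem cZS_f7 : (Nat.ble cZSc7.K 6 && Nat.ble (topK [cZSc8]) cZSc7.K && Nat.beq (cZSc7.Pt 0) (cZStl7.Pt 0) && Nat.beq (ltAll 1782 [cZStl6.Pt 0, cZStl5.Pt 0, cZStl4.Pt 0, cZStl3.Pt 0, cZStl2.Pt 0, cZStl1.Pt 0, cZStl0.Pt 0]) 0 && kChk cZSe_P (rl [nat_lit 0, nat_lit 1] F_P) cZSc7.K 2 H16.Suz.B [cZStl6.Pt 0, cZStl5.Pt 0, cZStl4.Pt 0, cZStl3.Pt 0, cZStl2.Pt 0, cZStl1.Pt 0, cZStl0.Pt 0]) = true := by decide +kernel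
theorem cZSc6_e_0 : allZ (dent cZSc6 cZSe_P (nat_lit 1782)) (nat_lit 0) (nat_lit 5) = true := by decide +kernel
theorem cZSc6_h : 0 < cZSc6.n ∧ 0 < cZSc6.K ∧ cZSc6.Pt 0 < 1782 ∧ cZSc6.Q (cZSc6.Pt 0) = 0 := by decide +kernel
theorem cZStn2_0 : (Nat.ble cZStl6.K 18 && Nat.beq (ltAll 1782 [cZStl5.Pt 0, cZStl4.Pt 0, cZStl3.Pt 0, cZStl2.Pt 0, cZStl1.Pt 0, cZStl0.Pt 0]) 0 && kChk cZSe_P (rl [nat_lit 0, nat_lit 1] F_P) cZStn2.Kn 2 H16.Suz.B [cZStl5.Pt 0, cZStl4.Pt 0, cZStl3.Pt 0, cZStl2.Pt 0, cZStl1.Pt 0, cZStl0.Pt 0] && allL (ltAll 2) cZStn2.pre && planOK cZSth_P (rl [nat_lit 0, nat_lit 1] F_P) 2 (cZStl6.Pt 0) cZStn2.plan [cZStl6, cZStl7, cZStl8]) = true := by decide +kernel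
theorem cZStn2_1_0 : allZ (cZStn2.ent H16.Suz.P cZSth_P (rl [nat_lit 0, nat_lit 1] F_P) (rl [nat_lit 0, nat_lit 1] F_P) cZSe_P (nat_lit 7) (nat_lit 2) H16.Suz.B cZStl6 [cZStl7, cZStl8] (memO cZSc6)) (nat_lit 0) (nat_lit 6) = true := by decide +kernel
theorem cZS_f6 : (Nat.ble cZSc6.K 6 && Nat.ble (topK [cZSc7, cZSc8]) cZSc6.K && Nat.beq (cZSc6.Pt 0) (cZStl6.Pt 0) && Nat.beq (ltAll 1782 [cZStl5.Pt 0, cZStl4.Pt 0, cZStl3.Pt 0, cZStl2.Pt 0, cZStl1.Pt 0, cZStl0.Pt 0]) 0 && kChk cZSe_P (rl [nat_lit 0, nat_lit 1] F_P) cZSc6.K 2 H16.Suz.B [cZStl5.Pt 0, cZStl4.Pt 0, cZStl3.Pt 0, cZStl2.Pt 0, cZStl1.Pt 0, cZStl0.Pt 0]) = true := by decide +kernel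
theorem cZS_f5 : (Nat.ble cZStl5.K 18 && Nat.blt (nat_lit 3) 1782 && fixLetters cZSth_P cZStl5.K (nat_lit 3) && Nat.beq (ltAll 2 [nat_lit 0]) 0 && Nat.beq (apW (rl [nat_lit 0, nat_lit 1] F_P) [nat_lit 0] (nat_lit 3)) (cZStl5.Pt 0)) = true := by decide +kernel
theorem cZSc4_e_0 : allZ (dent cZSc4 cZSe_P (nat_lit 1782)) (nat_lit 0) (nat_lit 7) = true := by decide +kernel
theorem cZSc4_h : 0 < cZSc4.n ∧ 0 < cZSc4.K ∧ cZSc4.Pt 0 < 1782 ∧ cZSc4.Q (cZSc4.Pt 0) = 0 := by decide +kernel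
theorem cZStn3y538_lt : allL (ltAll 7) cZStn3y538_W = true := by decide +kernel
theorem cZStr4k_lt : allL (ltAll 7) cZStr4k_W = true := by decide +kernel
theorem cZStn4y140_lt : allL (ltAll 7) cZStn4y140_W = true := by decide +kernel
theorem cZStr5k_lt : allL (ltAll 7) cZStr5k_W = true := by decide +kernel
theorem cZStn5y504_lt : allL (ltAll 7) cZStn5y504_W = true := by decide +kernel
theorem cZStr6k_lt : allL (ltAll 7) cZStr6k_W = true := by decide +kernel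
theorem cZStn6_0 : (Nat.ble cZStl8.K 18 && Nat.beq (ltAll 1782 [cZStl7.Pt 0, cZStl6.Pt 0, cZStl5.Pt 0, cZStl4.Pt 0, cZStl3.Pt 0, cZStl2.Pt 0, cZStl1.Pt 0, cZStl0.Pt 0]) 0 && kChk cZStr6k_P cZStn5y504_P cZStn6.Kn 2 H16.Suz.B [cZStl7.Pt 0, cZStl6.Pt 0, cZStl5.Pt 0, cZStl4.Pt 0, cZStl3.Pt 0, cZStl2.Pt 0, cZStl1.Pt 0, cZStl0.Pt 0] && allL (ltAll 2) cZStn6.pre && planOK cZSth_P (rl [nat_lit 0, nat_lit 1] F_P) 2 (cZStl8.Pt 0) cZStn6.plan [cZStl8]) = true := by decide +kernel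
theorem cZStn6_1_0 : allZ (cZStn6.ent H16.Suz.P cZSth_P (rl [nat_lit 0, nat_lit 1] F_P) cZStn5y504_P cZStr6k_P (nat_lit 7) (nat_lit 2) H16.Suz.B cZStl8 [] (fun _ => nat_lit 1)) (nat_lit 0) (nat_lit 2) = true := by decide +kernel
theorem cZStn5_0 : (Nat.ble cZStl7.K 18 && Nat.beq (ltAll 1782 [cZStl6.Pt 0, cZStl5.Pt 0, cZStl4.Pt 0, cZStl3.Pt 0, cZStl2.Pt 0, cZStl1.Pt 0, cZStl0.Pt 0]) 0 && kChk cZStr5k_P cZStn4y140_P cZStn5.Kn 2 H16.Suz.B [cZStl6.Pt 0, cZStl5.Pt 0, cZStl4.Pt 0, cZStl3.Pt 0, cZStl2.Pt 0, cZStl1.Pt 0, cZStl0.Pt 0] && allL (ltAll 2) cZStn5.pre && planOK cZSth_P (rl [nat_lit 0, nat_lit 1] F_P) 2 (cZStl7.Pt 0) cZStn5.plan [cZStl7, cZStl8]) = true := by decide +kernel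
theorem cZStn5_1_0 : allZ (cZStn5.ent H16.Suz.P cZSth_P (rl [nat_lit 0, nat_lit 1] F_P) cZStn4y140_P cZStr5k_P (nat_lit 7) (nat_lit 2) H16.Suz.B cZStl7 [cZStl8] (fun _ => nat_lit 1)) (nat_lit 0) (nat_lit 2) = true := by decide +kernel
theorem cZStn4_0 : (Nat.ble cZStl6.K 18 && Nat.beq (ltAll 1782 [cZStl5.Pt 0, cZStl4.Pt 0, cZStl3.Pt 0, cZStl2.Pt 0, cZStl1.Pt 0, cZStl0.Pt 0]) 0 && kChk cZStr4k_P cZStn3y538_P cZStn4.Kn 2 H16.Suz.B [cZStl5.Pt 0, cZStl4.Pt 0, cZStl3.Pt 0, cZStl2.Pt 0, cZStl1.Pt 0, cZStl0.Pt 0] && allL (ltAll 2) cZStn4.pre && planOK cZSth_P (rl [nat_lit 0, nat_lit 1] F_P) 2 (cZStl6.Pt 0) cZStn4.plan [cZStl6, cZStl7, cZStl8]) = true := by decide +kernel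
theorem cZStn4_1_0 : allZ (cZStn4.ent H16.Suz.P cZSth_P (rl [nat_lit 0, nat_lit 1] F_P) cZStn3y538_P cZStr4k_P (nat_lit 7) (nat_lit 2) H16.Suz.B cZStl6 [cZStl7, cZStl8] (fun _ => nat_lit 1)) (nat_lit 0) (nat_lit 6) = true := by decide +kernel
theorem cZStn3_0 : (Nat.ble cZStl4.K 18 && Nat.beq (ltAll 1782 [cZStl3.Pt 0, cZStl2.Pt 0, cZStl1.Pt 0, cZStl0.Pt 0]) 0 && kChk cZSe_P (rl [nat_lit 0, nat_lit 1] F_P) cZStn3.Kn 2 H16.Suz.B [cZStl3.Pt 0, cZStl2.Pt 0, cZStl1.Pt 0, cZStl0.Pt 0] && allL (ltAll 2) cZStn3.pre && planOK cZSth_P (rl [nat_lit 0, nat_lit 1] F_P) 2 (cZStl4.Pt 0) cZStn3.plan [cZStl4, cZStl5, cZStl6, cZStl7, cZStl8]) = true := by decide +kernel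
theorem cZStn3_1_0 : allZ (cZStn3.ent H16.Suz.P cZSth_P (rl [nat_lit 0, nat_lit 1] F_P) (rl [nat_lit 0, nat_lit 1] F_P) cZSe_P (nat_lit 7) (nat_lit 2) H16.Suz.B cZStl4 [cZStl5, cZStl6, cZStl7, cZStl8] (memO cZSc4)) (nat_lit 0) (nat_lit 16) = true := by decide +kernel
theorem cZS_f4 : (Nat.ble cZSc4.K 6 && Nat.ble (topK [cZSc6, cZSc7, cZSc8]) cZSc4.K && Nat.beq (cZSc4.Pt 0) (cZStl4.Pt 0) && Nat.beq (ltAll 1782 [cZStl3.Pt 0, cZStl2.Pt 0, cZStl1.Pt 0, cZStl0.Pt 0]) 0 && kChk cZSe_P (rl [nat_lit 0, nat_lit 1] F_P) cZSc4.K 2 H16.Suz.B [cZStl3.Pt 0, cZStl2.Pt 0, cZStl1.Pt 0, cZStl0.Pt 0]) = true := by decide +kernel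
theorem cZS_f3 : (Nat.ble cZStl3.K 18 && Nat.blt (nat_lit 326) 1782 && fixLetters cZSth_P cZStl3.K (nat_lit 326) && Nat.beq (ltAll 2 [nat_lit 0]) 0 && Nat.beq (apW (rl [nat_lit 0, nat_lit 1] F_P) [nat_lit 0] (nat_lit 326)) (cZStl3.Pt 0)) = true := by decide +kernel
theorem cZSc2_e_0 : allZ (dent cZSc2 cZSe_P (nat_lit 1782)) (nat_lit 0) (nat_lit 9) = true := by decide +kernel
theorem cZSc2_h : 0 < cZSc2.n ∧ 0 < cZSc2.K ∧ cZSc2.Pt 0 < 1782 ∧ cZSc2.Q (cZSc2.Pt 0) = 0 := by decide +kernel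
theorem cZStn7_0 : (Nat.ble cZStl2.K 18 && Nat.beq (ltAll 1782 [cZStl1.Pt 0, cZStl0.Pt 0]) 0 && kChk cZSe_P (rl [nat_lit 0, nat_lit 1] F_P) cZStn7.Kn 2 H16.Suz.B [cZStl1.Pt 0, cZStl0.Pt 0] && allL (ltAll 2) cZStn7.pre && planOK cZSth_P (rl [nat_lit 0, nat_lit 1] F_P) 2 (cZStl2.Pt 0) cZStn7.plan [cZStl2, cZStl3, cZStl4, cZStl5, cZStl6, cZStl7, cZStl8]) = true := by decide +kernel
theorem cZStn7_1_0 : allZ (cZStn7.ent H16.Suz.P cZSth_P (rl [nat_lit 0, nat_lit 1] F_P) (rl [nat_lit 0, nat_lit 1] F_P) cZSe_P (nat_lit 7) (nat_lit 2) H16.Suz.B cZStl2 [cZStl3, cZStl4, cZStl5, cZStl6, cZStl7, cZStl8] (memO cZSc2)) (nat_lit 0) (nat_lit 20) = true := by decide +kernel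
theorem cZS_f2 : (Nat.ble cZSc2.K 6 && Nat.ble (topK [cZSc4, cZSc6, cZSc7, cZSc8]) cZSc2.K && Nat.beq (cZSc2.Pt 0) (cZStl2.Pt 0) && Nat.beq (ltAll 1782 [cZStl1.Pt 0, cZStl0.Pt 0]) 0 && kChk cZSe_P (rl [nat_lit 0, nat_lit 1] F_P) cZSc2.K 2 H16.Suz.B [cZStl1.Pt 0, cZStl0.Pt 0]) = true := by decide +kernel
theorem cZS_f1 : (Nat.ble cZStl1.K 18 && Nat.blt (nat_lit 16) 1782 && fixLetters cZSth_P cZStl1.K (nat_lit 16) && Nat.beq (ltAll 2 [nat_lit 0]) 0 && Nat.beq (apW (rl [nat_lit 0, nat_lit 1] F_P) [nat_lit 0] (nat_lit 16)) (cZStl1.Pt 0)) = true := by decide +kernel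
theorem cZSc0_e_0 : allZ (dent cZSc0 cZSe_P (nat_lit 1782)) (nat_lit 0) (nat_lit 31) = true := by decide +kernel
theorem cZSc0_h : 0 < cZSc0.n ∧ 0 < cZSc0.K ∧ cZSc0.Pt 0 < 1782 ∧ cZSc0.Q (cZSc0.Pt 0) = 0 := by decide +kernel
theorem cZStn8_0 : (Nat.ble cZStl0.K 18 && Nat.beq (ltAll 1782 []) 0 && kChk cZSe_P (rl [nat_lit 0, nat_lit 1] F_P) cZStn8.Kn 2 H16.Suz.B [] && allL (ltAll 2) cZStn8.pre && planOK cZSth_P (rl [nat_lit 0, nat_lit 1] F_P) 2 (cZStl0.Pt 0) cZStn8.plan [cZStl0, cZStl1, cZStl2, cZStl3, cZStl4, cZStl5, cZStl6, cZStl7, cZStl8]) = true := by decide +kernel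
theorem cZStn8_1_0 : allZ (cZStn8.ent H16.Suz.P cZSth_P (rl [nat_lit 0, nat_lit 1] F_P) (rl [nat_lit 0, nat_lit 1] F_P) cZSe_P (nat_lit 7) (nat_lit 2) H16.Suz.B cZStl0 [cZStl1, cZStl2, cZStl3, cZStl4, cZStl5, cZStl6, cZStl7, cZStl8] (memO cZSc0)) (nat_lit 0) (nat_lit 1782) = true := by decide +kernel
theorem cZS_f0 : (Nat.ble cZSc0.K 6 && Nat.ble (topK [cZSc2, cZSc4, cZSc6, cZSc7, cZSc8]) cZSc0.K && Nat.beq (cZSc0.Pt 0) (cZStl0.Pt 0) && Nat.beq (ltAll 1782 []) 0 && kChk cZSe_P (rl [nat_lit 0, nat_lit 1] F_P) cZSc0.K 2 H16.Suz.B []) = true := by decide +kernel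
theorem cZS_c : chainCard [cZSc0, cZSc2, cZSc4, cZSc6, cZSc7, cZSc8] = 61440 ∧ topK [cZSc0, cZSc2, cZSc4, cZSc6, cZSc7, cZSc8] = 6 := by decide +kernel
theorem cZS_le_k : allZ (fun a => Nat.add (ltAll 8 (nth [] [[nat_lit 0, nat_lit 3, nat_lit 5, nat_lit 2, nat_lit 1],
  [nat_lit 3, nat_lit 0, nat_lit 2, nat_lit 2, nat_lit 1, nat_lit 5, nat_lit 2, nat_lit 5, nat_lit 2],
  [nat_lit 0, nat_lit 3, nat_lit 0, nat_lit 3, nat_lit 3],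
  [nat_lit 3, nat_lit 5, nat_lit 3, nat_lit 0, nat_lit 5, nat_lit 3, nat_lit 7],
  [nat_lit 2, nat_lit 1, nat_lit 3],
  [nat_lit 0, nat_lit 5, nat_lit 2, nat_lit 4, nat_lit 5, nat_lit 3, nat_lit 3, nat_lit 5, nat_lit 2]] a)) (sumL (fun β => Nat.xor (cZSe_P a β) (apW (rl [nat_lit 7, nat_lit 8, nat_lit 14, nat_lit 15, nat_lit 3, nat_lit 4, nat_lit 0, nat_lit 1] F_P) (nth [] [[nat_lit 0, nat_lit 3, nat_lit 5, nat_lit 2, nat_lit 1],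
  [nat_lit 3, nat_lit 0, nat_lit 2, nat_lit 2, nat_lit 1, nat_lit 5, nat_lit 2, nat_lit 5, nat_lit 2],
  [nat_lit 0, nat_lit 3, nat_lit 0, nat_lit 3, nat_lit 3],
  [nat_lit 3, nat_lit 5, nat_lit 3, nat_lit 0, nat_lit 5, nat_lit 3, nat_lit 7],
  [nat_lit 2, nat_lit 1, nat_lit 3],
  [nat_lit 0, nat_lit 5, nat_lit 2, nat_lit 4, nat_lit 5, nat_lit 3, nat_lit 3, nat_lit 5, nat_lit 2]] a) β)) H16.Suz.B)) 0 6 = true := by decide +kernel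
theorem PZS_k : allZ2 (fun a j => force a fun a => force j fun j => cjL (rl [nat_lit 0, nat_lit 1] F_P) (rl [nat_lit 7, nat_lit 8, nat_lit 14, nat_lit 15, nat_lit 3, nat_lit 4, nat_lit 0, nat_lit 1] F_P) 2 H16.Suz.B a [j] [j]) 8 2 = true := by decide +kernel
theorem cZSBth_lt : allL (ltAll 7) cZSBth_W = true := by decide +kernel
theorem cZSBtl0_e_0 : allZ (dent cZSBtl0 cZSBth_P (nat_lit 1782)) (nat_lit 0) (nat_lit 1781) = true := by decide +kernel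
theorem cZSBtl0_h : 0 < cZSBtl0.n ∧ 0 < cZSBtl0.K ∧ cZSBtl0.Pt 0 < 1782 ∧ cZSBtl0.Q (cZSBtl0.Pt 0) = 0 := by decide +kernel
theorem cZSBtl1_e_0 : allZ (dent cZSBtl1 cZSBth_P (nat_lit 1782)) (nat_lit 0) (nat_lit 415) = true := by decide +kernel
theorem cZSBtl1_h : 0 < cZSBtl1.n ∧ 0 < cZSBtl1.K ∧ cZSBtl1.Pt 0 < 1782 ∧ cZSBtl1.Q (cZSBtl1.Pt 0) = 0 := by decide +kernel
theorem cZSBtl2_e_0 : allZ (dent cZSBtl2 cZSBth_P (nat_lit 1782)) (nat_lit 0) (nat_lit 99) = true := by decide +kernel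
theorem cZSBtl2_h : 0 < cZSBtl2.n ∧ 0 < cZSBtl2.K ∧ cZSBtl2.Pt 0 < 1782 ∧ cZSBtl2.Q (cZSBtl2.Pt 0) = 0 := by decide +kernel
theorem cZSBtl3_e_0 : allZ (dent cZSBtl3 cZSBth_P (nat_lit 1782)) (nat_lit 0) (nat_lit 62) = true := by decide +kernel
theorem cZSBtl3_h : 0 < cZSBtl3.n ∧ 0 < cZSBtl3.K ∧ cZSBtl3.Pt 0 < 1782 ∧ cZSBtl3.Q (cZSBtl3.Pt 0) = 0 := by decide +kernel
theorem cZSBtl4_e_0 : allZ (dent cZSBtl4 cZSBth_P (nat_lit 1782)) (nat_lit 0) (nat_lit 11) = true := by decide +kernel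
theorem cZSBtl4_h : 0 < cZSBtl4.n ∧ 0 < cZSBtl4.K ∧ cZSBtl4.Pt 0 < 1782 ∧ cZSBtl4.Q (cZSBtl4.Pt 0) = 0 := by decide +kernel
theorem cZSBtl5_e_0 : allZ (dent cZSBtl5 cZSBth_P (nat_lit 1782)) (nat_lit 0) (nat_lit 1) = true := by decide +kernel
theorem cZSBtl5_h : 0 < cZSBtl5.n ∧ 0 < cZSBtl5.K ∧ cZSBtl5.Pt 0 < 1782 ∧ cZSBtl5.Q (cZSBtl5.Pt 0) = 0 := by decide +kernel
theorem cZSBtl6_e_0 : allZ (dent cZSBtl6 cZSBth_P (nat_lit 1782)) (nat_lit 0) (nat_lit 1) = true := by decide +kernel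
theorem cZSBtl6_h : 0 < cZSBtl6.n ∧ 0 < cZSBtl6.K ∧ cZSBtl6.Pt 0 < 1782 ∧ cZSBtl6.Q (cZSBtl6.Pt 0) = 0 := by decide +kernel
theorem cZSBtl7_e_0 : allZ (dent cZSBtl7 cZSBth_P (nat_lit 1782)) (nat_lit 0) (nat_lit 1) = true := by decide +kernel
theorem cZSBtl7_h : 0 < cZSBtl7.n ∧ 0 < cZSBtl7.K ∧ cZSBtl7.Pt 0 < 1782 ∧ cZSBtl7.Q (cZSBtl7.Pt 0) = 0 := by decide +kernel
theorem cZSBt_f7 : (Nat.ble cZSBtl7.K 18 && Nat.ble (topK []) cZSBtl7.K && fixLetters cZSBth_P (topK []) (cZSBtl7.Pt 0)) = true := by decide +kernel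
theorem cZSBt_f6 : (Nat.ble cZSBtl6.K 18 && Nat.ble (topK [cZSBtl7]) cZSBtl6.K && fixLetters cZSBth_P (topK [cZSBtl7]) (cZSBtl6.Pt 0)) = true := by decide +kernel
theorem cZSBt_f5 : (Nat.ble cZSBtl5.K 18 && Nat.ble (topK [cZSBtl6, cZSBtl7]) cZSBtl5.K && fixLetters cZSBth_P (topK [cZSBtl6, cZSBtl7]) (cZSBtl5.Pt 0)) = true := by decide +kernel
theorem cZSBt_f4 : (Nat.ble cZSBtl4.K 18 && Nat.ble (topK [cZSBtl5, cZSBtl6, cZSBtl7]) cZSBtl4.K && fixLetters cZSBth_P (topK [cZSBtl5, cZSBtl6, cZSBtl7]) (cZSBtl4.Pt 0)) = true := by decide +kernel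
theorem cZSBt_f3 : (Nat.ble cZSBtl3.K 18 && Nat.ble (topK [cZSBtl4, cZSBtl5, cZSBtl6, cZSBtl7]) cZSBtl3.K && fixLetters cZSBth_P (topK [cZSBtl4, cZSBtl5, cZSBtl6, cZSBtl7]) (cZSBtl3.Pt 0)) = true := by decide +kernel
theorem cZSBt_f2 : (Nat.ble cZSBtl2.K 18 && Nat.ble (topK [cZSBtl3, cZSBtl4, cZSBtl5, cZSBtl6, cZSBtl7]) cZSBtl2.K && fixLetters cZSBth_P (topK [cZSBtl3, cZSBtl4, cZSBtl5, cZSBtl6, cZSBtl7]) (cZSBtl2.Pt 0)) = true := by decide +kernel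
theorem cZSBt_f1 : (Nat.ble cZSBtl1.K 18 && Nat.ble (topK [cZSBtl2, cZSBtl3, cZSBtl4, cZSBtl5, cZSBtl6, cZSBtl7]) cZSBtl1.K && fixLetters cZSBth_P (topK [cZSBtl2, cZSBtl3, cZSBtl4, cZSBtl5, cZSBtl6, cZSBtl7]) (cZSBtl1.Pt 0)) = true := by decide +kernel
theorem cZSBt_f0 : (Nat.ble cZSBtl0.K 18 && Nat.ble (topK [cZSBtl1, cZSBtl2, cZSBtl3, cZSBtl4, cZSBtl5, cZSBtl6, cZSBtl7]) cZSBtl0.K && fixLetters cZSBth_P (topK [cZSBtl1, cZSBtl2, cZSBtl3, cZSBtl4, cZSBtl5, cZSBtl6, cZSBtl7]) (cZSBtl0.Pt 0)) = true := by decide +kernel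
theorem cZSBt_c : chainCard [cZSBtl0, cZSBtl1, cZSBtl2, cZSBtl3, cZSBtl4, cZSBtl5, cZSBtl6, cZSBtl7] = 448345497600 := by decide +kernel
theorem cZSBe_lt : allL (ltAll 7) cZSBe_W = true := by decide +kernel
theorem cZSB_f7 : (Nat.ble cZSBtl7.K 18 && Nat.blt (nat_lit 33) 1782 && fixLetters cZSBth_P cZSBtl7.K (nat_lit 33) && Nat.beq (ltAll 3 [nat_lit 1]) 0 && Nat.beq (apW (rl [nat_lit 0, nat_lit 1, nat_lit 14] F_P) [nat_lit 1] (nat_lit 33)) (cZSBtl7.Pt 0)) = true := by decide +kernel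
theorem cZSBc6_e_0 : allZ (dent cZSBc6 cZSBe_P (nat_lit 1782)) (nat_lit 0) (nat_lit 1) = true := by decide +kernel
theorem cZSBc6_h : 0 < cZSBc6.n ∧ 0 < cZSBc6.K ∧ cZSBc6.Pt 0 < 1782 ∧ cZSBc6.Q (cZSBc6.Pt 0) = 0 := by decide +kernel
theorem cZSBtn0_0 : (Nat.ble cZSBtl6.K 18 && Nat.beq (ltAll 1782 [cZSBtl5.Pt 0, cZSBtl4.Pt 0, cZSBtl3.Pt 0, cZSBtl2.Pt 0, cZSBtl1.Pt 0, cZSBtl0.Pt 0]) 0 && kChk cZSBe_P (rl [nat_lit 0, nat_lit 1, nat_lit 14] F_P) cZSBtn0.Kn 3 H16.Suz.B [cZSBtl5.Pt 0, cZSBtl4.Pt 0, cZSBtl3.Pt 0, cZSBtl2.Pt 0, cZSBtl1.Pt 0, cZSBtl0.Pt 0] && allL (ltAll 3) cZSBtn0.pre && planOK cZSBth_P (rl [nat_lit 0, nat_lit 1, nat_lit 14] F_P) 3 (cZSBtl6.Pt 0) cZSBtn0.plan [cZSBtl6, cZSBtl7]) = true := by decide +kernel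
theorem cZSBtn0_1_0 : allZ (cZSBtn0.ent H16.Suz.P cZSBth_P (rl [nat_lit 0, nat_lit 1, nat_lit 14] F_P) (rl [nat_lit 0, nat_lit 1, nat_lit 14] F_P) cZSBe_P (nat_lit 7) (nat_lit 3) H16.Suz.B cZSBtl6 [cZSBtl7] (memO cZSBc6)) (nat_lit 0) (nat_lit 2) = true := by decide +kernel
theorem cZSB_f6 : (Nat.ble cZSBc6.K 2 && Nat.ble (topK []) cZSBc6.K && Nat.beq (cZSBc6.Pt 0) (cZSBtl6.Pt 0) && Nat.beq (ltAll 1782 [cZSBtl5.Pt 0, cZSBtl4.Pt 0, cZSBtl3.Pt 0, cZSBtl2.Pt 0, cZSBtl1.Pt 0, cZSBtl0.Pt 0]) 0 && kChk cZSBe_P (rl [nat_lit 0, nat_lit 1, nat_lit 14] F_P) cZSBc6.K 3 H16.Suz.B [cZSBtl5.Pt 0, cZSBtl4.Pt 0, cZSBtl3.Pt 0, cZSBtl2.Pt 0, cZSBtl1.Pt 0, cZSBtl0.Pt 0]) = true := by decide +kernel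
theorem cZSB_f5 : (Nat.ble cZSBtl5.K 18 && Nat.blt (nat_lit 57) 1782 && fixLetters cZSBth_P cZSBtl5.K (nat_lit 57) && Nat.beq (ltAll 3 [nat_lit 2, nat_lit 2, nat_lit 2, nat_lit 2]) 0 && Nat.beq (apW (rl [nat_lit 0, nat_lit 1, nat_lit 14] F_P) [nat_lit 2, nat_lit 2, nat_lit 2, nat_lit 2] (nat_lit 57)) (cZSBtl5.Pt 0)) = true := by decide +kernel
theorem cZSB_f4 : (Nat.ble cZSBtl4.K 18 && Nat.blt (nat_lit 57) 1782 && fixLetters cZSBth_P cZSBtl4.K (nat_lit 57) && Nat.beq (ltAll 3 [nat_lit 2, nat_lit 2, nat_lit 2]) 0 && Nat.beq (apW (rl [nat_lit 0, nat_lit 1, nat_lit 14] F_P) [nat_lit 2, nat_lit 2, nat_lit 2] (nat_lit 57)) (cZSBtl4.Pt 0)) = true := by decide +kernel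
theorem cZSB_f3 : (Nat.ble cZSBtl3.K 18 && Nat.blt (nat_lit 57) 1782 && fixLetters cZSBth_P cZSBtl3.K (nat_lit 57) && Nat.beq (ltAll 3 [nat_lit 1]) 0 && Nat.beq (apW (rl [nat_lit 0, nat_lit 1, nat_lit 14] F_P) [nat_lit 1] (nat_lit 57)) (cZSBtl3.Pt 0)) = true := by decide +kernel
theorem cZSB_f2 : (Nat.ble cZSBtl2.K 18 && Nat.blt (nat_lit 57) 1782 && fixLetters cZSBth_P cZSBtl2.K (nat_lit 57) && Nat.beq (ltAll 3 [nat_lit 2, nat_lit 2]) 0 && Nat.beq (apW (rl [nat_lit 0, nat_lit 1, nat_lit 14] F_P) [nat_lit 2, nat_lit 2] (nat_lit 57)) (cZSBtl2.Pt 0)) = true := by decide +kernel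
theorem cZSB_f1 : (Nat.ble cZSBtl1.K 18 && Nat.blt (nat_lit 57) 1782 && fixLetters cZSBth_P cZSBtl1.K (nat_lit 57) && Nat.beq (ltAll 3 [nat_lit 2]) 0 && Nat.beq (apW (rl [nat_lit 0, nat_lit 1, nat_lit 14] F_P) [nat_lit 2] (nat_lit 57)) (cZSBtl1.Pt 0)) = true := by decide +kernel
theorem cZSBc0_e_0 : allZ (dent cZSBc0 cZSBe_P (nat_lit 1782)) (nat_lit 0) (nat_lit 9) = true := by decide +kernel
theorem cZSBc0_h : 0 < cZSBc0.n ∧ 0 < cZSBc0.K ∧ cZSBc0.Pt 0 < 1782 ∧ cZSBc0.Q (cZSBc0.Pt 0) = 0 := by decide +kernel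
theorem cZSBtn1_0 : (Nat.ble cZSBtl0.K 18 && Nat.beq (ltAll 1782 []) 0 && kChk cZSBe_P (rl [nat_lit 0, nat_lit 1, nat_lit 14] F_P) cZSBtn1.Kn 3 H16.Suz.B [] && allL (ltAll 3) cZSBtn1.pre && planOK cZSBth_P (rl [nat_lit 0, nat_lit 1, nat_lit 14] F_P) 3 (cZSBtl0.Pt 0) cZSBtn1.plan [cZSBtl0, cZSBtl1, cZSBtl2, cZSBtl3, cZSBtl4, cZSBtl5, cZSBtl6, cZSBtl7]) = true := by decide +kernel
theorem cZSBtn1_1_0 : allZ (cZSBtn1.ent H16.Suz.P cZSBth_P (rl [nat_lit 0, nat_lit 1, nat_lit 14] F_P) (rl [nat_lit 0, nat_lit 1, nat_lit 14] F_P) cZSBe_P (nat_lit 7) (nat_lit 3) H16.Suz.B cZSBtl0 [cZSBtl1, cZSBtl2, cZSBtl3, cZSBtl4, cZSBtl5, cZSBtl6, cZSBtl7] (memO cZSBc0)) (nat_lit 0) (nat_lit 1782) = true := by decide +kernel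
theorem cZSB_f0 : (Nat.ble cZSBc0.K 2 && Nat.ble (topK [cZSBc6]) cZSBc0.K && Nat.beq (cZSBc0.Pt 0) (cZSBtl0.Pt 0) && Nat.beq (ltAll 1782 []) 0 && kChk cZSBe_P (rl [nat_lit 0, nat_lit 1, nat_lit 14] F_P) cZSBc0.K 3 H16.Suz.B []) = true := by decide +kernel
theorem cZSB_c : chainCard [cZSBc0, cZSBc6] = 20 ∧ topK [cZSBc0, cZSBc6] = 2 := by decide +kernel
theorem cZSB_le_k : allZ (fun a => Nat.add (ltAll 3 (nth [] [[nat_lit 1],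
  [nat_lit 0, nat_lit 0, nat_lit 0, nat_lit 1, nat_lit 2]] a)) (sumL (fun β => Nat.xor (cZSBe_P a β) (apW (rl [nat_lit 14, nat_lit 0, nat_lit 1] F_P) (nth [] [[nat_lit 1],
  [nat_lit 0, nat_lit 0, nat_lit 0, nat_lit 1, nat_lit 2]] a) β)) H16.Suz.B)) 0 2 = true := by decide +kernel

end H0.Sz
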